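import Groth.Agent.TFCurvLib.LocFreeSub
import Groth.Agent.Props.GenPull
import Groth.Agent.PicLaw.Basic
import Groth.Agent.AmpleLib.Basic
import Groth.Agent.VBLib.Line
import Groth.Agent.CycLib.ModStalk
import Groth.Agent.ProperFin.FiniteMap
import Groth.Agent.Curv2Norm.Birational

/-!
# Surjectivity of the pullback of invertible modules to the normalization of a curve
-/

universe u

open CategoryTheory Limits AlgebraicGeometry Opposite TopologicalSpace
open Groth.Agent.PullStalk.Sky Groth.Agent.PullStalk.Exact Groth.Agent.Props.GenLocus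
open Groth.Agent.Props.SubMod Groth.Agent.Props.SubSheaf

set_option linter.style.haveILetI false

noncomputable section

namespace Groth.Agent.TFCurvLib

/-- An invertible module is generated near finitely many points of an affine open, none of which
specializes to another. -/
theorem exists_isGen_of_finite {Y : Scheme.{u}} {N : Y.Modules} (hN : PicF.IsInvertible N)
    {A : Y.Opens} (hA : IsAffineOpen A) {F : Set Y} (hF : F.Finite) (hFA : F ⊆ A)
    (hsep : ∀ p ∈ F, ∀ q ∈ F, q ⤳ p → p = q) :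
    ∃ (G : Y.Opens) (e : Γ(N, G)), F ⊆ G ∧ IsGen N G e := by
  classical
  haveI := (Groth.Agent.VBLib.isCoh_of_ofRank (Groth.Agent.VBLib.ofRank_one_of_invertible hN)).1
  haveI : Fintype F := hF.fintype
  choose U g hpU hg using fun p : F => exists_isGen hN p.1
  choose m s hs hm using fun p : F => Groth.Agent.CycLib.exists_smul_germ_eq N hA
    (hFA p.2) (germM N (U p) p.1 (hpU p) (g p))
  have hb : ∀ p q : F, ∃ b : Γ(Y, A), IsUnit (Y.presheaf.germ A p.1 (hFA p.2) b) ∧
      (p ≠ q → ¬ IsUnit (Y.presheaf.germ A q.1 (hFA q.2) b)) := by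
    intro p q
    by_cases hpq : p = q
    · exact ⟨1, by simp, fun h => (h hpq).elim⟩
    let O : Y.Opens := ⟨(closure {q.1})ᶜ, isClosed_closure.isOpen_compl⟩
    have hpO : p.1 ∈ O := fun h => hpq (Subtype.ext (hsep _ p.2 _ q.2 (specializes_iff_mem_closure.mpr h)))
    obtain ⟨f, hfO, hpf⟩ := hA.exists_basicOpen_le (V := O) ⟨p.1, hpO⟩ (hFA p.2)
    exact ⟨f, (Y.mem_basicOpen f p.1 (hFA p.2)).mp hpf,
      fun _ h => hfO ((Y.mem_basicOpen f q.1 (hFA q.2)).mpr h) (subset_closure rfl)⟩
  choose b hbu hbn using hb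
  let a : F → Γ(Y, A) := fun p => ∏ q, b p q
  have hau : ∀ p : F, IsUnit (Y.presheaf.germ A p.1 (hFA p.2) (a p)) := fun p => by
    rw [map_prod]
    exact IsUnit.prod_univ_iff.mpr (hbu p)
  have han : ∀ p q : F, p ≠ q → ¬ IsUnit (Y.presheaf.germ A q.1 (hFA q.2) (a p)) := fun p q hpq h => by
    rw [map_prod] at h
    exact hbn p q hpq (IsUnit.prod_univ_iff.mp h q)
  let e₀ : Γ(N, A) := ∑ p, a p • m p
  have key : ∀ q : F, ∃ (G : Y.Opens) (h : G ≤ A), q.1 ∈ G ∧ IsGen N G (Groth.Agent.QCoh.res N h e₀) := by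
    intro q
    have hqV : q.1 ∈ A ⊓ U q := ⟨hFA q.2, hpU q⟩
    obtain ⟨c, hc, -⟩ := (hg q).exists_eq (inf_le_right : A ⊓ U q ≤ U q)
      (Groth.Agent.QCoh.res N (inf_le_left : A ⊓ U q ≤ A) e₀)
    have hbij := Groth.Agent.PicLaw.bijective_toSpanSingleton_germ (hg q) q.1 (hpU q)
    choose d hd using fun p : F => hbij.2 (germM N A q.1 (hFA q.2) (m p))
    simp only [LinearMap.toSpanSingleton_apply] at hd
    have h1 : germM N A q.1 (hFA q.2) e₀ =
        Y.presheaf.germ (A ⊓ U q) q.1 hqV c • germM N (U q) q.1 (hpU q) (g q) := by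
      have h := congrArg (germM N (A ⊓ U q) q.1 hqV) hc
      rwa [germM_smul, Groth.Agent.HomShQC.germM_res, Groth.Agent.HomShQC.germM_res] at h
    have h2 : germM N A q.1 (hFA q.2) e₀ =
        (∑ p, Y.presheaf.germ A q.1 (hFA q.2) (a p) * d p) • germM N (U q) q.1 (hpU q) (g q) := by
      rw [germM_sum, Finset.sum_smul]
      exact Finset.sum_congr rfl fun p _ => by rw [germM_smul, mul_smul, hd]
    have hdq : d q = Y.presheaf.germ A q.1 (hFA q.2) (s q) := hbij.1 (by
      simp only [LinearMap.toSpanSingleton_apply]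
      rw [hd, ← hm])
    have hcd : Y.presheaf.germ (A ⊓ U q) q.1 hqV c =
        ∑ p, Y.presheaf.germ A q.1 (hFA q.2) (a p) * d p := hbij.1 (h1.symm.trans h2)
    have hu : IsUnit (Y.presheaf.germ (A ⊓ U q) q.1 hqV c) := by
      rw [hcd, ← Finset.add_sum_erase _ _ (Finset.mem_univ q), add_comm]
      refine IsLocalRing.notMem_maximalIdeal.mp fun hmem => ?_
      have hsum : ∑ p ∈ Finset.univ.erase q, Y.presheaf.germ A q.1 (hFA q.2) (a p) * d p ∈
          IsLocalRing.maximalIdeal (Y.presheaf.stalk q.1) :=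
        Ideal.sum_mem _ fun p hp => Ideal.mul_mem_right _ _
          ((IsLocalRing.mem_maximalIdeal _).mpr (han p q (Finset.ne_of_mem_erase hp)))
      refine (IsLocalRing.notMem_maximalIdeal.mpr ?_) ((Ideal.add_mem_iff_right _ hsum).mp hmem)
      rw [hdq]
      exact (hau q).mul (hs q)
    let G : Y.Opens := Y.basicOpen c
    have hGle : G ≤ A ⊓ U q := Y.basicOpen_le c
    have hcu : IsUnit (Groth.Agent.QCoh.rres hGle c) := RingedSpace.isUnit_res_basicOpen _ c
    refine ⟨G, hGle.trans inf_le_left, (Y.mem_basicOpen c q.1 hqV).mpr hu, ?_⟩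
    have hres : Groth.Agent.QCoh.res N (hGle.trans inf_le_left) e₀ =
        Groth.Agent.QCoh.rres hGle c • Groth.Agent.QCoh.res N (hGle.trans inf_le_right) (g q) := by
      have h := congrArg (Groth.Agent.QCoh.res N hGle) hc
      rwa [Groth.Agent.QCoh.res_res, Groth.Agent.QCoh.res_smul, Groth.Agent.QCoh.res_res] at h
    rw [hres]
    exact ((hg q).restrict (hGle.trans inf_le_right)).smul_unit hcu
  choose G hGA hqG hGgen using key
  have hle : ⨆ q, G q ≤ A := iSup_le hGA
  refine ⟨⨆ q, G q, Groth.Agent.QCoh.res N hle e₀,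
    fun p hp => Opens.mem_iSup.mpr ⟨⟨p, hp⟩, hqG ⟨p, hp⟩⟩, IsGen.of_local fun y hy => ?_⟩
  obtain ⟨q, hyq⟩ := Opens.mem_iSup.mp hy
  refine ⟨G q, le_iSup G q, hyq, ?_⟩
  rw [Groth.Agent.QCoh.res_res]
  exact hGgen q

/-- Sections of an open over which a morphism is an isomorphism. -/
lemma bijective_app_of_le {Z Z' : Scheme.{u}} (π : Z' ⟶ Z) {U V : Z.Opens} [IsIso (π ∣_ U)]
    (h : V ≤ U) : Function.Bijective (π.app V) := by
  have h1 : IsIso ((π ∣_ U).app (U.ι ⁻¹ᵁ V)) := inferInstance
  rw [morphismRestrict_app] at h1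
  have h2 : IsIso (π.app (U.ι ''ᵁ U.ι ⁻¹ᵁ V)) := @IsIso.of_isIso_comp_right _ _ _ _ _ _
    (Z'.presheaf.map (eqToHom (image_morphismRestrict_preimage π U (U.ι ⁻¹ᵁ V))).op) inferInstance h1
  rw [Scheme.Hom.image_preimage_eq_opensRange_inf, Scheme.Opens.opensRange_ι,
    inf_eq_right.mpr h] at h2
  exact ConcreteCategory.bijective_of_isIso (π.app V)

section Norm

variable (k : Type u) [Field k] (X : Scheme.{u}) [X.Over (Spec (CommRingCat.of k))]
  [LocallyOfFiniteType (X ↘ Spec (CommRingCat.of k))] [IsIntegral X] [CompactSpace X]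
  [QuasiCompact (X.fromSpecStalk (genericPoint X))] [QuasiSeparated (X.fromSpecStalk (genericPoint X))]
  [IsFinite (Curv2.normalizationι X)]

omit [CompactSpace X] in
/-- An invertible module on the normalization is generated over a neighbourhood of every point. -/
theorem exists_isGen_preimage {N : (Curv2.normalization X).Modules} (hN : PicF.IsInvertible N) (x : X) :
    ∃ (W : X.Opens) (e : Γ(N, Curv2.normalizationι X ⁻¹ᵁ W)),
      x ∈ W ∧ IsGen N (Curv2.normalizationι X ⁻¹ᵁ W) e := by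
  let ν := Curv2.normalizationι X
  obtain ⟨A, hA, hxA, -⟩ := exists_isAffineOpen_mem_and_subset (X := X) (Opens.mem_top x)
  have hsep : ∀ p ∈ ν ⁻¹' {x}, ∀ q ∈ ν ⁻¹' {x}, q ⤳ p → p = q := fun p hp q hq h => by
    haveI := isDiscrete_iff_discreteTopology.mp (ν.isDiscrete_preimage_singleton x)
    have h' : (⟨q, hq⟩ : ν ⁻¹' {x}) ⤳ ⟨p, hp⟩ := Topology.IsInducing.subtypeVal.specializes_iff.mp h
    exact congrArg Subtype.val h'.eq.symm
  obtain ⟨G, e, hFG, he⟩ := exists_isGen_of_finite hN (hA.preimage ν) (ν.finite_preimage_singleton x)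
    (fun p hp => show ν p ∈ A from (show ν p = x from hp) ▸ hxA) hsep
  let W : X.Opens := ⟨(ν '' ((G : Set (Curv2.normalization X))ᶜ))ᶜ,
    (ν.isClosedMap _ G.2.isClosed_compl).isOpen_compl⟩
  have hWG : ν ⁻¹ᵁ W ≤ G := fun z hz => by_contra fun h => hz ⟨z, h, rfl⟩
  refine ⟨W, Groth.Agent.QCoh.res N hWG e, ?_, he.restrict hWG⟩
  rintro ⟨z, hz, hzx⟩
  exact hz (hFG hzx)

include k in
/-- Every invertible module on the normalization comes from the curve. -/
theorem exists_invertible_pullback_iso (hdim : topologicalKrullDim X = 1)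
    {N : (Curv2.normalization X).Modules} (hN : PicF.IsInvertible N) :
    ∃ L : X.Modules, PicF.IsInvertible L ∧
      Nonempty ((Scheme.Modules.pullback (Curv2.normalizationι X)).obj L ≅ N) := by
  classical
  let ν := Curv2.normalizationι X
  haveI : IsLocallyNoetherian X := LocallyOfFiniteType.isLocallyNoetherian (X ↘ Spec (CommRingCat.of k))
  let M := (Scheme.Modules.pushforward ν).obj N
  haveI : M.IsQuasicoherent := (Groth.Agent.ProperFin.isCoh_push_of_isFinite ν N
    (Groth.Agent.VBLib.isCoh_of_ofRank (Groth.Agent.VBLib.ofRank_one_of_invertible hN))).1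
  obtain ⟨V, hVd, hViso⟩ := Groth.Agent.Curv2Norm.exists_dense_isIso X
  have hηV : genericPoint X ∈ V := by
    obtain ⟨y, hy⟩ := hVd.nonempty
    exact ((genericPoint_spec X).specializes (Set.mem_univ y)).mem_open V.2 hy
  choose W e hxW he using fun x => exists_isGen_preimage X hN x
  let eM : ∀ x, Γ(M, W x) := fun x => e x
  let S : StalkSub M := fun x =>
    if x ∈ V then ⊤ else Submodule.span _ {germM M (W x) x (hxW x) (eM x)}
  -- near a point, the stalks are spanned by the chosen generator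
  have hspan : ∀ (x y : X) (hy : y ∈ W x), y ∈ V →
      Submodule.span (X.presheaf.stalk y) {germM M (W x) y hy (eM x)} = ⊤ := by
    intro x y hy hyV
    rw [eq_top_iff]
    intro t _
    obtain ⟨U, hU, t, rfl⟩ := exists_germM_eq M y t
    let U' : X.Opens := U ⊓ W x ⊓ V
    have hU' : y ∈ U' := ⟨⟨hU, hy⟩, hyV⟩
    have hle : U' ≤ W x := inf_le_left.trans inf_le_right
    obtain ⟨a, ha, -⟩ := (he x).exists_eq (ν.preimage_mono hle)
      (Groth.Agent.QCoh.res M (inf_le_left.trans inf_le_left : U' ≤ U) t : Γ(N, ν ⁻¹ᵁ U'))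
    obtain ⟨r, rfl⟩ := (bijective_app_of_le ν (U := V) (inf_le_right : U' ≤ V)).2 a
    have ha' : Groth.Agent.QCoh.res M (inf_le_left.trans inf_le_left : U' ≤ U) t =
        r • Groth.Agent.QCoh.res M hle (eM x) := ha
    rw [← Groth.Agent.HomShQC.germM_res M (inf_le_left.trans inf_le_left : U' ≤ U) y hU' t, ha',
      germM_smul, Groth.Agent.HomShQC.germM_res M hle y hU' (eM x)]
    exact Submodule.smul_mem _ _ (Submodule.mem_span_singleton_self _)
  have hVfin : ((V : Set X)ᶜ).Finite :=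
    Groth.Agent.VarDim.finite_of_isClosed k hdim V.2.isClosed_compl (fun h => h hηV)
  -- good affine charts
  have hchart : ∀ x, ∃ A : X.Opens, IsAffineOpen A ∧ x ∈ A ∧ ∃ hAW : A ≤ W x,
      GenBy S A {Groth.Agent.QCoh.res M hAW (eM x)} := by
    intro x
    let Z : Set X := (V : Set X)ᶜ \ {x}
    have hZc : IsClosed Z := by
      rw [← Set.biUnion_of_singleton Z]
      exact (hVfin.subset Set.sdiff_subset).isClosed_biUnion fun z hz =>
        Groth.Agent.VarDim.isClosed_singleton_of_ne_genericPoint k hdim fun h => hz.1 (h ▸ hηV)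
    have hxO : x ∈ W x ⊓ (⟨Zᶜ, hZc.isOpen_compl⟩ : X.Opens) := ⟨hxW x, fun h => h.2 rfl⟩
    obtain ⟨A, hA, hxA, hAle⟩ := exists_isAffineOpen_mem_and_subset hxO
    have hAW : A ≤ W x := fun y hy => (hAle hy).1
    refine ⟨A, hA, hxA, hAW, fun y hy => ?_⟩
    rw [spanGerm, Set.image_singleton, Groth.Agent.HomShQC.germM_res]
    by_cases hyV : y ∈ V
    · exact (if_pos hyV).trans (hspan x y (hAW hy) hyV).symm
    · obtain rfl : y = x := by_contra fun h => (hAle hy).2 ⟨hyV, h⟩
      exact if_neg hyV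
  choose A hA hxA hAW hgen using hchart
  have hFT : FTOn S ⊤ := fun x _ =>
    ⟨A x, hA x, hxA x, le_top, {Groth.Agent.QCoh.res M (hAW x) (eM x)}, by simpa using hgen x⟩
  -- the generators of the subsheaf
  have hlift : ∀ x, ∃ l : Γ(sub S, A x), (incl S).app (A x) l = Groth.Agent.QCoh.res M (hAW x) (eM x) :=
    fun x => (mem_range_incl S _).mpr fun y hy => by
      rw [hgen x y hy]; exact Submodule.subset_span ⟨_, rfl, rfl⟩
  choose l hl using hlift
  have hlgen : ∀ x, IsGen (sub S) (A x) (l x) := fun x => by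
    rw [isGen_iff_isFrame]
    refine Groth.Agent.LFFrame.isFrame_of_stalkComb_bijective fun y hy => ?_
    have hinj := Groth.Agent.VBLib.stalkLin_injective (incl S) y
    have himg : stalkLin (incl S) y (germM (sub S) (A x) y hy (l x)) = germM M (W x) y (hAW x hy) (eM x) := by
      rw [stalkLin_germ, hl, Groth.Agent.HomShQC.germM_res]
    have hcomb : ∀ a : Fin 1 → X.presheaf.stalk y,
        Groth.Agent.LFFrame.stalkComb (sub S) (fun _ => l x) y hy a = a 0 • germM (sub S) (A x) y hy (l x) :=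
      fun a => by simp [Groth.Agent.LFFrame.stalkComb, Fintype.linearCombination_apply]
    refine ⟨(injective_iff_map_eq_zero _).mpr fun a ha => funext fun i => ?_, fun t => ?_⟩
    · obtain rfl := Subsingleton.elim i 0
      rw [hcomb] at ha
      have h := congrArg (stalkLin (incl S) y) ha
      rw [map_smul, himg, map_zero] at h
      obtain ⟨U, hU, r, hr⟩ := X.presheaf.exists_germ_eq (x := y) (a 0)
      let U' : X.Opens := U ⊓ W x
      have hU' : y ∈ U' := ⟨hU, hAW x hy⟩
      have h' : germM M U' y hU' (Groth.Agent.QCoh.rres (inf_le_left : U' ≤ U) r •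
          Groth.Agent.QCoh.res M (inf_le_right : U' ≤ W x) (eM x)) = germM M U' y hU' 0 := by
        rw [germM_smul, Groth.Agent.HomShQC.germ_rres, hr, Groth.Agent.HomShQC.germM_res, h]
        exact (map_zero _).symm
      obtain ⟨U'', hU'', i₁, i₂, hz⟩ := M.presheaf.germ_eq y hU' hU' _ _ h'
      have hz' : Groth.Agent.QCoh.res M i₁.le (Groth.Agent.QCoh.rres (inf_le_left : U' ≤ U) r •
          Groth.Agent.QCoh.res M (inf_le_right : U' ≤ W x) (eM x)) = 0 := hz.trans (map_zero _)
      rw [Groth.Agent.QCoh.res_smul, Groth.Agent.QCoh.res_res] at hz'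
      have hz'' : ν.app U'' (Groth.Agent.QCoh.rres i₁.le (Groth.Agent.QCoh.rres (inf_le_left : U' ≤ U) r)) •
          Groth.Agent.QCoh.res N (ν.preimage_mono (i₁.le.trans inf_le_right)) (e x) =
          (0 : Γ(Curv2.normalization X, ν ⁻¹ᵁ U'')) •
          Groth.Agent.QCoh.res N (ν.preimage_mono (i₁.le.trans inf_le_right)) (e x) :=
        hz'.trans (zero_smul Γ(Curv2.normalization X, ν ⁻¹ᵁ U'')
          (Groth.Agent.QCoh.res N (ν.preimage_mono (i₁.le.trans inf_le_right)) (e x))).symm
      have h0 := Groth.Agent.Curv2Norm.app_injective X U''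
        (((he x).injective _ hz'').trans (map_zero (ν.app U'').hom).symm)
      rw [← hr, Pi.zero_apply, ← Groth.Agent.HomShQC.germ_rres (inf_le_left : U' ≤ U) y hU',
        ← Groth.Agent.HomShQC.germ_rres i₁.le y hU'', h0, map_zero]
    · have ht : stalkLin (incl S) y t ∈ Submodule.span (X.presheaf.stalk y) {germM M (W x) y (hAW x hy) (eM x)} := by
        have := (range_stalkLin_incl hFT y).le ⟨t, rfl⟩
        rwa [hgen x y hy, spanGerm, Set.image_singleton, Groth.Agent.HomShQC.germM_res] at this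
      obtain ⟨c, hc⟩ := Submodule.mem_span_singleton.mp ht
      refine ⟨fun _ => c, hinj ?_⟩
      rw [hcomb, map_smul, himg, hc]
  have hL : PicF.IsInvertible (sub S) :=
    Groth.Agent.AmpleLib.isInvertible_of_exists_isGen fun x => ⟨A x, l x, hxA x, hlgen x⟩
  -- the adjoint map
  let adj := Scheme.Modules.pullbackPushforwardAdjunction ν
  let φ : (Scheme.Modules.pullback ν).obj (sub S) ⟶ N := (adj.homEquiv (sub S) N).symm (incl S)
  have hφ : ∀ x, φ.app (ν ⁻¹ᵁ A x) (Groth.Agent.Props.GenPull.pb ν (l x)) =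
      Groth.Agent.QCoh.res N (ν.preimage_mono (hAW x)) (e x) := fun x => by
    have h : adj.homEquiv (sub S) N φ = incl S := Equiv.apply_symm_apply _ _
    rw [Adjunction.homEquiv_unit] at h
    exact (congrArg (fun ψ : sub S ⟶ M => ψ.app (A x) (l x)) h).trans (hl x)
  haveI : IsIso φ := Groth.Agent.Omega.Stalks.isIso_of_stalk fun y' => by
    let x := ν y'
    have hy : y' ∈ ν ⁻¹ᵁ A x := hxA x
    have h1 := Groth.Agent.PicLaw.bijective_toSpanSingleton_germ
      (Groth.Agent.Props.GenPull.isGen_pb ν (hlgen x)) y' hy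
    have h2 := Groth.Agent.PicLaw.bijective_toSpanSingleton_germ
      ((he x).restrict (ν.preimage_mono (hAW x))) y' hy
    have hg : stalkLin φ y' (germM _ (ν ⁻¹ᵁ A x) y' hy (Groth.Agent.Props.GenPull.pb ν (l x))) =
        germM N (ν ⁻¹ᵁ A x) y' hy (Groth.Agent.QCoh.res N (ν.preimage_mono (hAW x)) (e x)) :=
      (stalkLin_germ φ _ y' hy _).trans (congrArg _ (hφ x))
    have hc : stalkLin φ y' ∘ LinearMap.toSpanSingleton ((Curv2.normalization X).presheaf.stalk y') _
        (germM _ (ν ⁻¹ᵁ A x) y' hy (Groth.Agent.Props.GenPull.pb ν (l x))) =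
        LinearMap.toSpanSingleton ((Curv2.normalization X).presheaf.stalk y') _ (germM N (ν ⁻¹ᵁ A x) y' hy
          (Groth.Agent.QCoh.res N (ν.preimage_mono (hAW x)) (e x))) := funext fun a =>
      ((stalkLin φ y').map_smul a _).trans (congrArg (fun t => a • t) hg)
    exact (h1.of_comp_iff _).mp (hc ▸ h2)
  exact ⟨sub S, hL, ⟨asIso φ⟩⟩

end Norm

end Groth.Agent.TFCurvLib

end
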