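import Groth.Agent.Props.SubSheaf
import Groth.Agent.Ref1.Sp
import Groth.Agent.Ref1.Rank
import Groth.Agent.VBLib.Basic
import Groth.Agent.VBLib.DualDeg
import Groth.Agent.VarDim.Curve
import Groth.Agent.Omega.Stalks
import Groth.Agent.HomShQC.Stalk
import Groth.Agent.S1688
import Groth.Prelude.Def_TorSh

/-!
# Locally free submodules and supermodules of torsion-free modules on integral curves
-/

universe u

open CategoryTheory Limits AlgebraicGeometry Opposite TopologicalSpace
open Groth.Agent.PullStalk.Sky Groth.Agent.PullStalk.Exact Groth.Agent.Props.QStalk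
open Groth.Agent.Props.SubMod Groth.Agent.Props.SubSheaf Groth.Agent.HomShQC
open Groth.Agent.Ref1 (hsp toη toK sp sp_smul sp_germ spR_germ toK_ne_zero toη_injective exists_smul_eq_toη)

noncomputable section

namespace Groth.Agent.TFCurvLib

set_option linter.style.haveILetI false

variable {X : Scheme.{u}}

lemma germM_sum {ι : Type*} (M : X.Modules) (U : X.Opens) (x : X) (hx : x ∈ U) (s : Finset ι) (f : ι → Γ(M, U)) :
    germM M U x hx (∑ i ∈ s, f i) = ∑ i ∈ s, germM M U x hx (f i) :=
  map_sum (M.presheaf.germ U x hx).hom f s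

/-- The germs of finitely many sections span all stalks near a point where they span. -/
theorem exists_nhd_span_top {M : X.Modules} (hM : CohB1.IsFT M) {n : ℕ} {W : X.Opens}
    (s : Fin n → Γ(M, W)) {x : X} (hx : x ∈ W)
    (h : Submodule.span (X.presheaf.stalk x) (Set.range fun i => germM M W x hx (s i)) = ⊤) :
    ∃ V : X.Opens, x ∈ V ∧ ∃ hVW : V ≤ W, ∀ y (hy : y ∈ V),
      Submodule.span (X.presheaf.stalk y) (Set.range fun i => germM M W y (hVW hy) (s i)) = ⊤ := by
  classical
  obtain ⟨U, hxU, m, t, ht⟩ := Groth.Agent.HomShEval.exists_span_germ M hM x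
  have key : ∀ j : Fin m, ∃ V : X.Opens, x ∈ V ∧ V ≤ W ⊓ U ∧ ∀ y (_ : y ∈ V) (hW : y ∈ W) (hU : y ∈ U),
      germM M U y hU (t j) ∈ Submodule.span (X.presheaf.stalk y)
        (Set.range fun i => germM M W y hW (s i)) := by
    intro j
    obtain ⟨a, ha⟩ := (Submodule.mem_span_range_iff_exists_fun _).mp
      (show germM M U x hxU (t j) ∈ Submodule.span (X.presheaf.stalk x)
        (Set.range fun i => germM M W x hx (s i)) from h ▸ trivial)
    choose A hA r hr using fun i => X.presheaf.exists_germ_eq (x := x) (a i)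
    let V₀ : X.Opens := Finset.univ.inf A ⊓ (W ⊓ U)
    have hxV₀ : x ∈ V₀ := ⟨Groth.Agent.HomShEval.mem_finset_inf _ _ hA, hx, hxU⟩
    have hA' : ∀ i, V₀ ≤ A i := fun i => inf_le_left.trans (Finset.inf_le (Finset.mem_univ i))
    have hW' : V₀ ≤ W := inf_le_right.trans inf_le_left
    have hU' : V₀ ≤ U := inf_le_right.trans inf_le_right
    have e : germM M V₀ x hxV₀ (Groth.Agent.QCoh.res M hU' (t j)) = germM M V₀ x hxV₀
        (∑ i, X.presheaf.map (homOfLE (hA' i)).op (r i) • Groth.Agent.QCoh.res M hW' (s i)) := by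
      rw [germM_sum, germM_res M hU' x hxV₀ (t j), ← ha]
      refine Finset.sum_congr rfl fun i _ => ?_
      rw [germM_smul, germM_res M hW' x hxV₀ (s i), germ_rres (hA' i) x hxV₀ (r i), hr i]
    obtain ⟨V, hxV, i₁, i₂, he⟩ := M.presheaf.germ_eq x hxV₀ hxV₀ _ _ e
    refine ⟨V, hxV, le_inf (i₁.le.trans hW') (i₁.le.trans hU'), fun y hy hW hU => ?_⟩
    have e' : germM M V₀ y (i₁.le hy) (Groth.Agent.QCoh.res M hU' (t j)) = germM M V₀ y (i₁.le hy)
        (∑ i, X.presheaf.map (homOfLE (hA' i)).op (r i) • Groth.Agent.QCoh.res M hW' (s i)) :=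
      ((TopCat.Presheaf.germ_res_apply M.presheaf i₁ y hy _).symm.trans
        (congrArg (M.presheaf.germ V y hy) he)).trans
        (TopCat.Presheaf.germ_res_apply M.presheaf i₂ y hy _)
    rw [germM_res M hU' y (i₁.le hy) (t j), germM_sum] at e'
    rw [e']
    refine Submodule.sum_mem _ fun i _ => ?_
    rw [germM_smul, germM_res M hW' y (i₁.le hy) (s i)]
    exact Submodule.smul_mem _ _ (Submodule.subset_span ⟨i, rfl⟩)
  choose V hxV hVle hV using key
  refine ⟨Finset.univ.inf V ⊓ (W ⊓ U), ⟨Groth.Agent.HomShEval.mem_finset_inf _ _ hxV, hx, hxU⟩,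
    inf_le_right.trans inf_le_left, fun y hy => top_le_iff.mp ?_⟩
  rw [← ht y hy.2.2, Submodule.span_le]
  rintro _ ⟨j, rfl⟩
  exact hV j y ((Finset.inf_le (Finset.mem_univ j) : Finset.univ.inf V ≤ V j) hy.1) hy.2.1 hy.2.2

/-- A free stalk of a coherent module gives a free neighbourhood. -/
theorem exists_nhd_free_stalks [IsLocallyNoetherian X] {M : X.Modules} (hM : Coh.IsCoh M) (x : X)
    [hfree : Module.Free (X.presheaf.stalk x) (M.presheaf.stalk x)] :
    ∃ V : X.Opens, x ∈ V ∧ ∀ y ∈ V, Module.Free (X.presheaf.stalk y) (M.presheaf.stalk y) := by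
  haveI := hM.1
  haveI := hM.2
  obtain ⟨U, hU, hxU, -⟩ := exists_isAffineOpen_mem_and_subset (X := X) (Opens.mem_top x)
  haveI : IsNoetherianRing Γ(X, U) := IsLocallyNoetherian.component_noetherian ⟨U, hU⟩
  haveI := Groth.Agent.QCoh.finite_sections_of_isFiniteType M hU
  obtain ⟨V, n, hxV, ⟨φ⟩⟩ := Groth.Agent.Props.QProj.exists_free_nhd M hU hxU
    (Module.finitePresentation_of_finite _ _) hfree
  obtain ⟨e, he⟩ := Groth.Agent.VBLib.exists_isFrame_of_iso φ
  exact ⟨V, hxV, fun y hy =>
    Module.Free.of_equiv (LinearEquiv.ofBijective _ (he.stalkComb_bijective y hy))⟩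

/-- The stalks of the subsheaf attached to a finitely generated family. -/
theorem range_stalkLin_incl {M : X.Modules} [M.IsQuasicoherent] {S : StalkSub M} (hS : FTOn S ⊤) (x : X) :
    LinearMap.range (stalkLin (incl S) x) = S x := by
  apply le_antisymm
  · rintro _ ⟨w, rfl⟩
    obtain ⟨U, hU, a, rfl⟩ := exists_germM_eq (sub S) x w
    rw [stalkLin_germ]
    exact (mem_range_incl S _).mp ⟨a, rfl⟩ x hU
  · obtain ⟨V, -, hxV, -, s, hs⟩ := hS x trivial
    rw [hs x hxV, spanGerm, Submodule.span_le]
    rintro _ ⟨m, hm, rfl⟩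
    obtain ⟨a, ha⟩ := (mem_range_incl S m).mpr fun y hy => by
      rw [hs y hy]; exact Submodule.subset_span ⟨m, hm, rfl⟩
    exact ⟨germM (sub S) V x hxV a, by rw [stalkLin_germ, ha]⟩

section Curve

variable (k : Type u) [Field k] [X.Over (Spec (CommRingCat.of k))]
  [LocallyOfFiniteType (X ↘ Spec (CommRingCat.of k))] [IsIntegral X] [CompactSpace X]

include k in
/-- A coherent torsion-free module of rank `n` on an integral curve contains a finite locally free
module of rank `n` with the same stalks at the regular points. -/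
theorem exists_locFree_sub (hdim : topologicalKrullDim X = 1) {F : X.Modules} (hFc : Coh.IsCoh F)
    (hFt : TorSh.IsTorsionFree F) :
    ∃ (E : X.Modules) (i : E ⟶ F), FlatMod.IsFinLocFreeOfRank (Groth.Agent.VBLib.rk F) E ∧ Mono i ∧
      Function.Bijective (stalkLin i (genericPoint X)) ∧
      ∀ x : X, IsRegularLocalRing (X.presheaf.stalk x) → Function.Bijective (stalkLin i x) := by
  classical
  haveI : IsLocallyNoetherian X := LocallyOfFiniteType.isLocallyNoetherian (X ↘ Spec (CommRingCat.of k))
  haveI := hFc.1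
  set η := genericPoint X with hη
  letI : Field (X.presheaf.stalk η) := inferInstanceAs (Field X.functionField)
  haveI : Module.Finite (X.presheaf.stalk η) (F.presheaf.stalk η) :=
    Groth.Agent.VBLib.finite_stalk hFc η
  let b := Module.finBasis (X.presheaf.stalk η) (F.presheaf.stalk η)
  -- sections through every point, which give a basis generically
  choose a v ha0 hv using fun (x : X) i => exists_smul_eq_toη F x (b i)
  choose U hU m hm using fun (x : X) i => exists_germM_eq F x (v x i)
  let W : X → X.Opens := fun x => Finset.univ.inf (U x)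
  have hxW : ∀ x, x ∈ W x := fun x => Groth.Agent.HomShEval.mem_finset_inf _ _ (hU x)
  have hWU : ∀ x i, W x ≤ U x i := fun x i => Finset.inf_le (Finset.mem_univ i)
  let s : ∀ x, Fin (Module.finrank (X.presheaf.stalk η) (F.presheaf.stalk η)) → Γ(F, W x) :=
    fun x i => Groth.Agent.QCoh.res F (hWU x i) (m x i)
  have hs : ∀ x i, germM F (W x) x (hxW x) (s x i) = v x i :=
    fun x i => (germM_res F (hWU x i) x (hxW x) (m x i)).trans (hm x i)
  have hηW : ∀ x, η ∈ W x := fun x => (hsp x).mem_open (W x).2 (hxW x)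
  have hsη : ∀ x i, germM F (W x) η (hηW x) (s x i) = toK x (a x i) • b i := fun x i => by
    rw [← hv x i, ← hs x i]
    exact (sp_germ F (hsp x) (hxW x) (s x i)).symm
  have hspan : ∀ x, Submodule.span (X.presheaf.stalk η)
      (Set.range fun i => germM F (W x) η (hηW x) (s x i)) = ⊤ := fun x => by
    rw [eq_top_iff, ← b.span_eq, Submodule.span_le]
    rintro _ ⟨i, rfl⟩
    have h : (toK x (a x i))⁻¹ • germM F (W x) η (hηW x) (s x i) = b i := by
      rw [hsη, smul_smul, inv_mul_cancel₀ (toK_ne_zero (ha0 x i)), one_smul]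
    exact h ▸ Submodule.smul_mem _ _ (Submodule.subset_span ⟨i, rfl⟩)
  choose V hηV hVW hV using fun x => exists_nhd_span_top hFc.2 (s x) (hηW x) (hspan x)
  -- the exceptional points
  haveI : Module.Free (X.presheaf.stalk η) (F.presheaf.stalk η) := Module.Free.of_basis b
  obtain ⟨V₀, hηV₀, hV₀⟩ := exists_nhd_free_stalks hFc η
  have hfin : ∀ A : X.Opens, η ∈ A → ((A : Set X)ᶜ).Finite := fun A hA =>
    Groth.Agent.VarDim.finite_of_isClosed k hdim A.2.isClosed_compl (fun h => h hA)
  let T : Set X := {x | x ∉ V₀ ∧ ¬ IsRegularLocalRing (X.presheaf.stalk x)}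
  have hTV₀ : T ⊆ (V₀ : Set X)ᶜ := fun x hx => hx.1
  have hTfin : T.Finite := (hfin V₀ hηV₀).subset hTV₀
  have hηT : η ∉ T := fun h => h.1 hηV₀
  have hclosed : ∀ Z : Set X, Z.Finite → η ∉ Z → IsClosed Z := fun Z hZ hZη => by
    rw [← Set.biUnion_of_singleton Z]
    exact hZ.isClosed_biUnion fun z hz =>
      Groth.Agent.VarDim.isClosed_singleton_of_ne_genericPoint k hdim fun h => hZη ((show z = η from h) ▸ hz)
  -- the family of submodules of the stalks
  let S : StalkSub F := fun x => if x ∈ T then Submodule.span _ (Set.range (v x)) else ⊤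
  have hSpos : ∀ x, x ∈ T → S x = Submodule.span _ (Set.range (v x)) := fun x hx => if_pos hx
  have hSneg : ∀ x, x ∉ T → S x = ⊤ := fun x hx => if_neg hx
  have hFT : FTOn S ⊤ := by
    intro x _
    by_cases hx : x ∈ T
    · let Z : Set X := ((V x : Set X)ᶜ ∪ T) \ {x}
      have hZf : Z.Finite := ((hfin (V x) (hηV x)).union hTfin).subset Set.sdiff_subset
      have hZη : η ∉ Z := fun h => h.1.elim (fun h' => h' (hηV x)) hηT
      let O : X.Opens := ⟨Zᶜ, (hclosed Z hZf hZη).isOpen_compl⟩
      have hxO : x ∈ W x ⊓ O := ⟨hxW x, fun h => h.2 rfl⟩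
      obtain ⟨A, hA, hxA, hAle⟩ := exists_isAffineOpen_mem_and_subset hxO
      have hAW : A ≤ W x := fun y hy => (hAle hy).1
      refine ⟨A, hA, hxA, le_top, Finset.univ.image fun i => Groth.Agent.QCoh.res F hAW (s x i),
        fun y hy => ?_⟩
      have himg : (fun z => germM F A y hy z) ''
          (↑(Finset.univ.image fun i => Groth.Agent.QCoh.res F hAW (s x i)) : Set Γ(F, A)) =
          Set.range fun i => germM F (W x) y (hAW hy) (s x i) := by
        rw [Finset.coe_image, Finset.coe_univ, Set.image_univ, ← Set.range_comp]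
        exact congrArg Set.range (funext fun i => germM_res F hAW y hy (s x i))
      rw [spanGerm, himg]
      by_cases hyx : y = x
      · subst hyx
        rw [hSpos _ hx]
        exact congrArg (fun r => Submodule.span _ (Set.range r)) (funext fun i => (hs _ i).symm)
      · have hyZ : y ∉ Z := (hAle hy).2
        have hyT : y ∉ T := fun h => hyZ ⟨Or.inr h, hyx⟩
        have hyV : y ∈ V x := by_contra fun h => hyZ ⟨Or.inl h, hyx⟩
        rw [hSneg _ hyT]
        exact (hV x y hyV).symm
    · obtain ⟨U', hxU', n, t, ht⟩ := Groth.Agent.HomShEval.exists_span_germ F hFc.2 x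
      let O : X.Opens := ⟨Tᶜ, (hclosed T hTfin hηT).isOpen_compl⟩
      have hxO : x ∈ U' ⊓ O := ⟨hxU', hx⟩
      obtain ⟨A, hA, hxA, hAle⟩ := exists_isAffineOpen_mem_and_subset hxO
      have hAU : A ≤ U' := fun y hy => (hAle hy).1
      refine ⟨A, hA, hxA, le_top, Finset.univ.image fun i => Groth.Agent.QCoh.res F hAU (t i),
        fun y hy => ?_⟩
      have himg : (fun z => germM F A y hy z) ''
          (↑(Finset.univ.image fun i => Groth.Agent.QCoh.res F hAU (t i)) : Set Γ(F, A)) =
          Set.range fun i => germM F U' y (hAU hy) (t i) := by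
        rw [Finset.coe_image, Finset.coe_univ, Set.image_univ, ← Set.range_comp]
        exact congrArg Set.range (funext fun i => germM_res F hAU y hy (t i))
      rw [spanGerm, himg, hSneg _ (hAle hy).2]
      exact (ht y (hAU hy)).symm
  haveI := isQuasicoherent_sub hFT
  have hEc : Coh.IsCoh (sub S) := ⟨inferInstance, isFiniteType_sub hFT⟩
  have hinj : ∀ x, Function.Injective (stalkLin (incl S) x) := Groth.Agent.VBLib.stalkLin_injective _
  have hbij : ∀ x, x ∉ T → Function.Bijective (stalkLin (incl S) x) := fun x hx =>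
    ⟨hinj x, LinearMap.range_eq_top.mp ((range_stalkLin_incl hFT x).trans (hSneg x hx))⟩
  have hE : FlatMod.IsFinLocFree (sub S) := by
    rw [Groth.Agent.S1688.finLocFree_iff _ hEc]
    intro x
    by_cases hx : x ∈ T
    · have hli : LinearIndependent (X.presheaf.stalk x) (v x) := by
        refine Fintype.linearIndependent_iff.mpr fun c hc i => ?_
        have e : ∑ j, (toK x (c j) * toK x (a x j)) • b j = 0 := by
          have := congrArg (toη F x) hc
          rw [map_sum, map_zero] at this
          rw [← this]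
          exact Finset.sum_congr rfl fun j _ => by rw [toη, sp_smul, ← toη, hv, smul_smul]
        have := Fintype.linearIndependent_iff.mp b.linearIndependent _ e i
        by_contra hci
        exact (mul_ne_zero (toK_ne_zero hci) (toK_ne_zero (ha0 x i))) this
      haveI := Module.Free.of_basis (Module.Basis.span hli)
      exact Module.Free.of_equiv ((LinearEquiv.ofInjective _ (hinj x)).trans
        (LinearEquiv.ofEq _ _ ((range_stalkLin_incl hFT x).trans (hSpos x hx)))).symm
    · suffices Module.Free (X.presheaf.stalk x) (F.presheaf.stalk x) by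
        haveI := this
        exact Module.Free.of_equiv (LinearEquiv.ofBijective _ (hbij x hx)).symm
      by_cases hx₀ : x ∈ V₀
      · exact hV₀ x hx₀
      · haveI : IsRegularLocalRing (X.presheaf.stalk x) := by_contra fun h => hx ⟨hx₀, h⟩
        haveI : Ring.KrullDimLE 1 (X.presheaf.stalk x) :=
          Groth.Agent.S1688.krullDimLE_stalk (n := 1) hdim.le x
        haveI := Groth.Agent.S1688.isPrincipalIdealRing_of_regular (X.presheaf.stalk x)
        haveI := Groth.Agent.VBLib.finite_stalk hFc x
        haveI := hFt x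
        exact Module.free_of_finite_type_torsion_free'
  have hrk : Groth.Agent.VBLib.rk (sub S) = Groth.Agent.VBLib.rk F :=
    (LinearEquiv.ofBijective _ (hbij η hηT)).finrank_eq
  exact ⟨sub S, incl S, hrk ▸ Groth.Agent.VBLib.ofRank_rk hE, inferInstance, hbij η hηT,
    fun x hx => hbij x fun h => h.2 hx⟩

include k in
/-- A coherent torsion-free module of rank `n` on an integral curve embeds in a finite locally free
module of rank `n` with the same stalks at the regular points. -/
theorem exists_locFree_super (hdim : topologicalKrullDim X = 1) {F : X.Modules} (hFc : Coh.IsCoh F)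
    (hFt : TorSh.IsTorsionFree F) :
    ∃ (E : X.Modules) (j : F ⟶ E), FlatMod.IsFinLocFreeOfRank (Groth.Agent.VBLib.rk F) E ∧ Mono j ∧
      ∀ x : X, IsRegularLocalRing (X.presheaf.stalk x) → Function.Bijective (stalkLin j x) := by
  haveI : IsLocallyNoetherian X := LocallyOfFiniteType.isLocallyNoetherian (X ↘ Spec (CommRingCat.of k))
  haveI := hFc.1
  set η := genericPoint X with hη
  letI : Field (X.presheaf.stalk η) := inferInstanceAs (Field X.functionField)
  have hDc := isCoh_dual F hFc
  have hFP := isFP_of_isCoh F hFc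
  have hDt : TorSh.IsTorsionFree (RefHull.dual F) := fun x =>
    (dualEquiv F hFP x).injective.moduleIsTorsionFree (dualEquiv F hFP x) (map_smul _)
  have hrkD : Groth.Agent.VBLib.rk (RefHull.dual F) = Groth.Agent.VBLib.rk F :=
    (dualEquiv F hFP η).finrank_eq.trans Subspace.dual_finrank_eq
  obtain ⟨E, i, hE, hi, hiη, hireg⟩ := exists_locFree_sub k hdim hDc hDt
  have hElf := Groth.Agent.VBLib.isFinLocFree_of_ofRank hE
  have hEc := Groth.Agent.VBLib.isCoh_of_isFinLocFree hElf
  have hE'c := isCoh_dual E hEc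
  haveI := hEc.1
  have hEfree : ∀ x : X, Module.Free (X.presheaf.stalk x) (E.presheaf.stalk x) := fun x =>
    (Groth.Agent.Props.QProj.free_stalk E hElf x).1
  have hE' : FlatMod.IsFinLocFree (RefHull.dual E) := by
    rw [Groth.Agent.S1688.finLocFree_iff _ hE'c]
    intro x
    haveI := hEfree x
    haveI := Groth.Agent.VBLib.finite_stalk hEc x
    exact Module.Free.of_equiv (dualEquiv E (isFP_of_isCoh E hEc) x).symm
  have hrk : Groth.Agent.VBLib.rk (RefHull.dual E) = Groth.Agent.VBLib.rk F := by
    rw [← hrkD, ← Groth.Agent.VBLib.rk_eq hE]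
    exact (dualEquiv E (isFP_of_isCoh E hEc) η).finrank_eq.trans Subspace.dual_finrank_eq
  let j : F ⟶ RefHull.dual E := RefHull.bidualMap F ≫ Groth.Agent.VBLib.DualDeg.dualMap i
  have hdual : ∀ x, Function.Bijective (stalkLin i x) →
      Function.Bijective (stalkLin (Groth.Agent.VBLib.DualDeg.dualMap i) x) := fun x hx => by
    have h1 := Groth.Agent.VBLib.DualDeg.bijective_evalStalk hEc x
    have h2 := Groth.Agent.VBLib.DualDeg.bijective_evalStalk hDc x
    let e := LinearEquiv.ofBijective _ hx
    have h3 : Function.Bijective fun l : RefHull.StalkHom (RefHull.dual F) (Coh.structureModule X) x =>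
        l.comp (stalkLin i x) := by
      refine Function.bijective_iff_has_inverse.mpr ⟨fun l => l.comp e.symm.toLinearMap, fun l => ?_, fun l => ?_⟩
      · refine LinearMap.ext fun t => congrArg l ?_
        exact e.apply_symm_apply t
      · refine LinearMap.ext fun t => congrArg l ?_
        exact e.symm_apply_apply t
    refine (h1.of_comp_iff' _).mp ?_
    rw [show RefHull.evalStalk E (Coh.structureModule X) x ∘ stalkLin (Groth.Agent.VBLib.DualDeg.dualMap i) x =
      (fun l => LinearMap.comp l (stalkLin i x)) ∘ RefHull.evalStalk (RefHull.dual F) (Coh.structureModule X) x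
      from funext fun θ => Groth.Agent.VBLib.DualDeg.evalStalk_dualMap i x θ]
    exact h3.comp h2
  have hj : ∀ x, Module.Free (X.presheaf.stalk x) (F.presheaf.stalk x) → Function.Bijective (stalkLin i x) →
      Function.Bijective (stalkLin j x) := fun x hx hix => by
    haveI := hx
    have hb := Groth.Agent.Ref1.bijective_bidual_of_free F hFc x
    rw [show (stalkLin j x : _ → _) = stalkLin (Groth.Agent.VBLib.DualDeg.dualMap i) x ∘
      stalkLin (RefHull.bidualMap F) x from funext fun t => Groth.Agent.Omega.Stalks.stalkLin_comp _ _ x t]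
    exact (hdual x hix).comp hb
  haveI : Module.Finite (X.presheaf.stalk η) (F.presheaf.stalk η) := Groth.Agent.VBLib.finite_stalk hFc η
  have hjη := hj η inferInstance hiη
  refine ⟨RefHull.dual E, j, hrk ▸ Groth.Agent.VBLib.ofRank_rk hE', ?_, fun x hx => ?_⟩
  · refine Groth.Agent.Omega.Stalks.mono_of_stalk fun x => ?_
    rw [injective_iff_map_eq_zero]
    intro t ht
    have h := Groth.Agent.Ref1.sp_stalkMap j (hsp x) t
    have ht' : RefHull.stalkMapₗ j x t = 0 := ht
    rw [ht', map_zero] at h
    have h' : sp F (hsp x) t = 0 := hjη.1 (h.symm.trans (map_zero _).symm)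
    exact toη_injective F x (hFt x) (h'.trans (map_zero _).symm)
  · haveI := hx
    haveI : Ring.KrullDimLE 1 (X.presheaf.stalk x) :=
      Groth.Agent.S1688.krullDimLE_stalk (n := 1) hdim.le x
    haveI := Groth.Agent.S1688.isPrincipalIdealRing_of_regular (X.presheaf.stalk x)
    haveI := Groth.Agent.VBLib.finite_stalk hFc x
    haveI := hFt x
    exact hj x Module.free_of_finite_type_torsion_free' (hireg x hx)

end Curve

/-- A stalkwise surjection has cokernel with vanishing stalk. -/
theorem subsingleton_cokernel_stalk {M N : X.Modules} (f : M ⟶ N) (x : X)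
    (h : Function.Surjective (stalkLin f x)) : Subsingleton ((cokernel f).presheaf.stalk x) := by
  refine subsingleton_of_forall_eq 0 fun c => ?_
  obtain ⟨t, rfl⟩ := stalk_surjective (cokernel.π f) x c
  obtain ⟨w, rfl⟩ := h t
  rw [← Groth.Agent.Omega.Stalks.stalkLin_comp, cokernel.condition, Groth.Agent.Omega.Stalks.stalkLin_zero]

end Groth.Agent.TFCurvLib

end
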