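import Groth.Agent.LimTop.PullSec
import Groth.Agent.CycLib.ModStalk
import Groth.Agent.Omega.Stalks
import Groth.Agent.Ref1.Sp
import Groth.Prelude.Def_TorSh
import Mathlib.AlgebraicGeometry.Morphisms.Finite

/-!
# Direct images along finite birational morphisms are fully faithful on torsion-free modules
-/

universe u

open CategoryTheory Limits AlgebraicGeometry Opposite TopologicalSpace
open Groth.Agent.PullStalk.Sky Groth.Agent.PullStalk.Exact
open Groth.Agent.Ref1 (hsp toη toK sp sp_smul sp_germ spR_germ toK_ne_zero toη_injective)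
open scoped TensorProduct

set_option linter.style.haveILetI false

noncomputable section

namespace Groth.Agent.TFCurvLib

variable {X Y : Scheme.{u}} (ν : Y ⟶ X)

/-- The counit `ν^* ν_* E ⟶ E`. -/
abbrev eps (E : Y.Modules) : (Scheme.Modules.pullback ν).obj ((Scheme.Modules.pushforward ν).obj E) ⟶ E :=
  (Scheme.Modules.pullbackPushforwardAdjunction ν).counit.app E

/-- The unit on sections over a preimage. -/
abbrev eta (M : X.Modules) (U : X.Opens) (m : Γ(M, U)) :
    Γ((Scheme.Modules.pullback ν).obj M, ν ⁻¹ᵁ U) :=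
  Groth.Agent.LimTop.unitSec ν M (le_refl (ν ⁻¹ᵁ U)) m

lemma eta_eq (M : X.Modules) (U : X.Opens) (m : Γ(M, U)) :
    eta ν M U m = ((Scheme.Modules.pullbackPushforwardAdjunction ν).unit.app M).app U m :=
  Groth.Agent.QCoh.res_self _ _ _

lemma eta_smul (M : X.Modules) (U : X.Opens) (r : Γ(X, U)) (m : Γ(M, U)) :
    eta ν M U (r • m) = ν.app U r • eta ν M U m := by
  rw [eta_eq, eta_eq, Scheme.Modules.Hom.app_smul]
  rfl

lemma eps_eta (E : Y.Modules) (U : X.Opens) (m : Γ((Scheme.Modules.pushforward ν).obj E, U)) :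
    (eps ν E).app (ν ⁻¹ᵁ U) (eta ν ((Scheme.Modules.pushforward ν).obj E) U m) = (m : Γ(E, ν ⁻¹ᵁ U)) :=
  (congrArg ((eps ν E).app (ν ⁻¹ᵁ U)) (eta_eq ν ((Scheme.Modules.pushforward ν).obj E) U m)).trans
    (congrArg (fun φ : (Scheme.Modules.pushforward ν).obj E ⟶ (Scheme.Modules.pushforward ν).obj E =>
      φ.app U m) ((Scheme.Modules.pullbackPushforwardAdjunction ν).right_triangle_components E))

/-- The germ of the image of a unit section under the counit. -/
lemma stalkLin_eps_eta (E : Y.Modules) (U : X.Opens) (y : Y) (hy : y ∈ ν ⁻¹ᵁ U)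
    (m : Γ((Scheme.Modules.pushforward ν).obj E, U)) :
    stalkLin (eps ν E) y (germM _ (ν ⁻¹ᵁ U) y hy (eta ν ((Scheme.Modules.pushforward ν).obj E) U m)) =
      germM E (ν ⁻¹ᵁ U) y hy (m : Γ(E, ν ⁻¹ᵁ U)) :=
  (stalkLin_germ (eps ν E) _ y hy _).trans (congrArg (germM E (ν ⁻¹ᵁ U) y hy) (eps_eta ν E U m))

/-- The sections of the pullback over an affine preimage are spanned by those of the module. -/
theorem span_eta [IsAffineHom ν] (M : X.Modules) [M.IsQuasicoherent] {U : X.Opens} (hU : IsAffineOpen U) :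
    Submodule.span Γ(Y, ν ⁻¹ᵁ U) (Set.range (eta ν M U)) = ⊤ := by
  have h : ν ⁻¹ᵁ U ≤ ν ⁻¹ᵁ U := le_rfl
  letI := (ν.appLE U (ν ⁻¹ᵁ U) h).hom.toAlgebra
  letI := Groth.Agent.LimTop.secModule ν M h
  haveI : IsScalarTower Γ(X, U) Γ(Y, ν ⁻¹ᵁ U) Γ((Scheme.Modules.pullback ν).obj M, ν ⁻¹ᵁ U) :=
    IsScalarTower.of_algebraMap_smul fun _ _ => rfl
  have hbc := Groth.Agent.LimTop.isBaseChange_unitSec ν M h hU (hU.preimage ν)
  refine eq_top_iff.mpr fun y _ => ?_
  exact hbc.inductionOn y (fun y => y ∈ Submodule.span Γ(Y, ν ⁻¹ᵁ U) (Set.range (eta ν M U)))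
    (zero_mem _) (fun s => Submodule.subset_span ⟨s, rfl⟩) (fun b n hn => Submodule.smul_mem _ b hn)
    (fun a b => add_mem)

/-- The unit is bijective over affine opens over which the morphism is an isomorphism. -/
theorem bijective_eta [IsAffineHom ν] (M : X.Modules) [M.IsQuasicoherent] {U : X.Opens} (hU : IsAffineOpen U)
    (hb : Function.Bijective (ν.app U)) : Function.Bijective (eta ν M U) := by
  have h : ν ⁻¹ᵁ U ≤ ν ⁻¹ᵁ U := le_rfl
  letI := (ν.appLE U (ν ⁻¹ᵁ U) h).hom.toAlgebra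
  letI := Groth.Agent.LimTop.secModule ν M h
  haveI : IsScalarTower Γ(X, U) Γ(Y, ν ⁻¹ᵁ U) Γ((Scheme.Modules.pullback ν).obj M, ν ⁻¹ᵁ U) :=
    IsScalarTower.of_algebraMap_smul fun _ _ => rfl
  have hbc := Groth.Agent.LimTop.isBaseChange_unitSec ν M h hU (hU.preimage ν)
  have hb' : Function.Bijective (algebraMap Γ(X, U) Γ(Y, ν ⁻¹ᵁ U)) := by
    rw [RingHom.algebraMap_toAlgebra, Scheme.Hom.appLE_eq_app]
    exact hb
  let e : Γ(X, U) ≃ₗ[Γ(X, U)] Γ(Y, ν ⁻¹ᵁ U) :=
    LinearEquiv.ofBijective (Algebra.linearMap Γ(X, U) Γ(Y, ν ⁻¹ᵁ U)) hb'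
  let f : Γ(M, U) ≃ₗ[Γ(X, U)] (Γ(Y, ν ⁻¹ᵁ U) ⊗[Γ(X, U)] Γ(M, U)) :=
    (TensorProduct.lid Γ(X, U) Γ(M, U)).symm.trans (TensorProduct.congr e (LinearEquiv.refl Γ(X, U) Γ(M, U)))
  have : eta ν M U = fun m => hbc.equiv (f m) := funext fun m => by
    have : f m = (1 : Γ(Y, ν ⁻¹ᵁ U)) ⊗ₜ[Γ(X, U)] m := by
      simp only [f, LinearEquiv.trans_apply, TensorProduct.lid_symm_apply, TensorProduct.congr_tmul,
        LinearEquiv.refl_apply]
      rw [show e 1 = 1 from map_one (algebraMap Γ(X, U) Γ(Y, ν ⁻¹ᵁ U))]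
    rw [this, hbc.equiv_tmul, one_smul]
    rfl
  rw [this]
  exact hbc.equiv.bijective.comp f.bijective

/-- The counit is stalkwise surjective. -/
theorem surjective_stalk_eps [IsAffineHom ν] (E : Y.Modules) [E.IsQuasicoherent] (y : Y) :
    Function.Surjective (stalkLin (eps ν E) y) := by
  intro t
  obtain ⟨U, hU, hyU, -⟩ := exists_isAffineOpen_mem_and_subset (X := X) (Opens.mem_top (ν y))
  obtain ⟨m, s, hs, hm⟩ := Groth.Agent.CycLib.exists_smul_germ_eq E (hU.preimage ν) (x := y) hyU t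
  obtain ⟨w, hw⟩ := hs.exists_left_inv
  refine ⟨w • germM _ (ν ⁻¹ᵁ U) y hyU (eta ν _ U m), ?_⟩
  rw [map_smul]
  refine (congrArg (fun v => w • v) (stalkLin_eps_eta ν E U y hyU m)).trans ?_
  rw [← hm, smul_smul, hw, one_smul]

lemma epi_eps [IsAffineHom ν] (E : Y.Modules) [E.IsQuasicoherent] : Epi (eps ν E) :=
  Groth.Agent.Omega.Stalks.epi_of_stalk (surjective_stalk_eps ν E)

variable [IsFinite ν]

/-- The counit is injective at points over which the morphism is an isomorphism. -/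
theorem injective_stalk_eps (E : Y.Modules) [E.IsQuasicoherent] {U : X.Opens} (hU : IsAffineOpen U)
    (hb : Function.Bijective (ν.app U)) (y : Y) (hy : y ∈ ν ⁻¹ᵁ U) :
    Function.Injective (stalkLin (eps ν E) y) := by
  haveI : ((Scheme.Modules.pushforward ν).obj E).IsQuasicoherent :=
    Groth.Agent.QCoh.isQuasicoherent_pushforward ν E
  haveI := Groth.Agent.QCoh.isQuasicoherent_pullback ν ((Scheme.Modules.pushforward ν).obj E)
  rw [injective_iff_map_eq_zero]
  intro t ht
  obtain ⟨m, c, hc, hm⟩ := Groth.Agent.CycLib.exists_smul_germ_eq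
    ((Scheme.Modules.pullback ν).obj ((Scheme.Modules.pushforward ν).obj E)) (hU.preimage ν) (x := y) hy t
  obtain ⟨m₀, rfl⟩ := (bijective_eta ν ((Scheme.Modules.pushforward ν).obj E) hU hb).2 m
  have h0 : germM E (ν ⁻¹ᵁ U) y hy m₀ = 0 := by
    have h := congrArg (stalkLin (eps ν E) y) hm
    rw [map_smul, ht, smul_zero] at h
    exact (h.trans (stalkLin_eps_eta ν E U y hy m₀)).symm
  obtain ⟨s, hs, hs0⟩ := Groth.Agent.CycLib.exists_smul_eq_zero_of_germ_eq_zero E (hU.preimage ν) hy m₀ h0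
  obtain ⟨r, rfl⟩ := hb.2 s
  have h1 : eta ν ((Scheme.Modules.pushforward ν).obj E) U
      (r • (m₀ : Γ((Scheme.Modules.pushforward ν).obj E, U))) = 0 := by
    rw [show r • (m₀ : Γ((Scheme.Modules.pushforward ν).obj E, U)) =
      (0 : Γ((Scheme.Modules.pushforward ν).obj E, U)) from hs0]
    exact map_zero _
  rw [eta_smul] at h1
  have h2 := congrArg (germM _ (ν ⁻¹ᵁ U) y hy) h1
  rw [germM_smul, show germM ((Scheme.Modules.pullback ν).obj ((Scheme.Modules.pushforward ν).obj E))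
    (ν ⁻¹ᵁ U) y hy 0 = 0 from map_zero _, ← hm, hs.smul_eq_zero, hc.smul_eq_zero] at h2
  exact h2

variable [IsIntegral Y]

/-- Morphisms out of a direct image into the direct image of a torsion-free module come from morphisms. -/
theorem exists_eps_comp_eq (E E' : Y.Modules) [E.IsQuasicoherent] [E'.IsQuasicoherent]
    (hE' : TorSh.IsTorsionFree E') {U : X.Opens} (hU : IsAffineOpen U) (hb : Function.Bijective (ν.app U))
    (hηU : ν (genericPoint Y) ∈ U)
    (g : (Scheme.Modules.pushforward ν).obj E ⟶ (Scheme.Modules.pushforward ν).obj E') :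
    ∃ f : E ⟶ E', (Scheme.Modules.pushforward ν).map f = g := by
  let adj := Scheme.Modules.pullbackPushforwardAdjunction ν
  haveI := epi_eps ν E
  let gh := (adj.homEquiv _ E').symm g
  have hk : kernel.ι (eps ν E) ≫ gh = 0 := Groth.Agent.Omega.Stalks.hom_ext_stalk fun y =>
    LinearMap.ext fun w => by
      rw [Groth.Agent.Omega.Stalks.stalkLin_comp, Groth.Agent.Omega.Stalks.stalkLin_zero]
      generalize hv : stalkLin (kernel.ι (eps ν E)) y w = v
      have hv0 : stalkLin (eps ν E) y v = 0 := by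
        rw [← hv, ← Groth.Agent.Omega.Stalks.stalkLin_comp, kernel.condition,
          Groth.Agent.Omega.Stalks.stalkLin_zero]
      refine toη_injective E' y (hE' y) ?_
      have h1 : stalkLin (eps ν E) (genericPoint Y) (sp _ (hsp y) v) = 0 :=
        (Groth.Agent.Ref1.sp_stalkMap (eps ν E) (hsp y) v).symm.trans
          ((congrArg (sp E (hsp y)) hv0).trans (map_zero _))
      have h2 := injective_stalk_eps ν E hU hb (genericPoint Y) hηU
        (h1.trans (map_zero (stalkLin (eps ν E) (genericPoint Y))).symm)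
      refine (Groth.Agent.Ref1.sp_stalkMap gh (hsp y) v).trans ?_
      rw [h2, map_zero, map_zero]
  refine ⟨Abelian.epiDesc (eps ν E) gh hk, ?_⟩
  have h : eps ν E ≫ Abelian.epiDesc (eps ν E) gh hk = gh := Abelian.comp_epiDesc _ _ _
  have e := congrArg (adj.homEquiv _ E') h
  rw [adj.homEquiv_naturality_right] at e
  replace e := e.trans (Equiv.apply_symm_apply (adj.homEquiv _ E') g)
  rw [← e, Adjunction.homEquiv_unit]
  exact (Category.id_comp _).symm.trans
    (congrArg (fun φ => φ ≫ (Scheme.Modules.pushforward ν).map (Abelian.epiDesc (eps ν E) gh hk))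
      (adj.right_triangle_components E).symm)

omit [IsFinite ν] [IsIntegral Y] in
/-- Direct image is faithful on quasi-coherent sources along affine morphisms. -/
theorem eq_of_push_map_eq [IsAffineHom ν] {E E' : Y.Modules} [E.IsQuasicoherent] (f f' : E ⟶ E')
    (h : (Scheme.Modules.pushforward ν).map f = (Scheme.Modules.pushforward ν).map f') : f = f' := by
  haveI := epi_eps ν E
  rw [← cancel_epi (eps ν E)]
  let adj := Scheme.Modules.pullbackPushforwardAdjunction ν
  apply (adj.homEquiv _ E').injective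
  rw [adj.homEquiv_naturality_right, adj.homEquiv_naturality_right, h]

/-- Torsion-free modules with isomorphic direct images are isomorphic. -/
theorem nonempty_iso_of_push_iso (E E' : Y.Modules) [E.IsQuasicoherent] [E'.IsQuasicoherent]
    (hE : TorSh.IsTorsionFree E) (hE' : TorSh.IsTorsionFree E') {U : X.Opens} (hU : IsAffineOpen U)
    (hb : Function.Bijective (ν.app U)) (hηU : ν (genericPoint Y) ∈ U)
    (e : (Scheme.Modules.pushforward ν).obj E ≅ (Scheme.Modules.pushforward ν).obj E') :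
    Nonempty (E ≅ E') := by
  obtain ⟨f, hf⟩ := exists_eps_comp_eq ν E E' hE' hU hb hηU e.hom
  obtain ⟨f', hf'⟩ := exists_eps_comp_eq ν E' E hE hU hb hηU e.inv
  exact ⟨⟨f, f', eq_of_push_map_eq ν _ _ (by rw [Functor.map_comp, hf, hf', e.hom_inv_id, CategoryTheory.Functor.map_id]),
    eq_of_push_map_eq ν _ _ (by rw [Functor.map_comp, hf, hf', e.inv_hom_id, CategoryTheory.Functor.map_id])⟩⟩

end Groth.Agent.TFCurvLib

end
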