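import Groth.Agent.TFCurvLib.NormPush
import Groth.Agent.Ref1.Hull
import Groth.Agent.VBLib.Basic
import Groth.Agent.Curv2Norm.DimOne
import Groth.Agent.Curv2Norm.Birational
import Groth.Agent.ZClosLib.CohDescent
import Groth.Agent.TFCurvLib.PicSurj
import Mathlib.RingTheory.DedekindDomain.Dvr
import Mathlib.RingTheory.DedekindDomain.PID

/-!
# Modules with stalks `Õ_x ^ n` on a curve are direct images of bundles on the normalization
-/

universe u

open CategoryTheory Limits AlgebraicGeometry Opposite TopologicalSpace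
open Groth.Agent.PullStalk.Sky Groth.Agent.PullStalk.Exact
open Groth.Agent.Ref1 (hsp toη toK sp sp_smul sp_germ spR_germ toK_ne_zero toη_injective toK_injective)

set_option linter.style.haveILetI false

noncomputable section

namespace Groth.Agent.TFCurvLib

variable {X Y : Scheme.{u}} (ν : Y ⟶ X)

/-- Scalars from the base cancel on the stalks of the direct image of a torsion-free module. -/
theorem stalk_push_cancel [IsIntegral Y] (hinj : ∀ W : X.Opens, Function.Injective (ν.app W)) (E : Y.Modules)
    (hE : TorSh.IsTorsionFree E) (x : X) {c : X.presheaf.stalk x} (hc : c ≠ 0)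
    (z : ((Scheme.Modules.pushforward ν).obj E).presheaf.stalk x) (h : c • z = 0) : z = 0 := by
  obtain ⟨U, hU, r, rfl⟩ := X.presheaf.exists_germ_eq (x := x) c
  obtain ⟨W, hW, t, rfl⟩ := exists_germM_eq ((Scheme.Modules.pushforward ν).obj E) x z
  let M := (Scheme.Modules.pushforward ν).obj E
  let W₀ : X.Opens := U ⊓ W
  have hW₀ : x ∈ W₀ := ⟨hU, hW⟩
  have h' : germM M W₀ x hW₀ (Groth.Agent.QCoh.rres (inf_le_left : W₀ ≤ U) r •
      Groth.Agent.QCoh.res M (inf_le_right : W₀ ≤ W) t) = germM M W₀ x hW₀ 0 := by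
    rw [germM_smul, Groth.Agent.HomShQC.germ_rres, Groth.Agent.HomShQC.germM_res]
    exact h.trans (map_zero _).symm
  obtain ⟨W₁, hW₁, i₁, i₂, hz⟩ := M.presheaf.germ_eq x hW₀ hW₀ _ _ h'
  have hz' : Groth.Agent.QCoh.res M i₁.le (Groth.Agent.QCoh.rres (inf_le_left : W₀ ≤ U) r •
      Groth.Agent.QCoh.res M (inf_le_right : W₀ ≤ W) t) = 0 := hz.trans (map_zero _)
  rw [Groth.Agent.QCoh.res_smul, Groth.Agent.QCoh.res_res] at hz'
  set r₁ := Groth.Agent.QCoh.rres i₁.le (Groth.Agent.QCoh.rres (inf_le_left : W₀ ≤ U) r)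
  have hr₁ : X.presheaf.germ W₁ x hW₁ r₁ = X.presheaf.germ U x hU r := by
    rw [Groth.Agent.HomShQC.germ_rres, Groth.Agent.HomShQC.germ_rres]
  have hνr : ν.app W₁ r₁ ≠ 0 := fun h0 => hc (by
    rw [← hr₁, hinj W₁ (h0.trans (map_zero (ν.app W₁).hom).symm), map_zero])
  let t' : Γ(E, ν ⁻¹ᵁ W₁) := Groth.Agent.QCoh.res M (i₁.le.trans inf_le_right) t
  have ht : Groth.Agent.QCoh.res M (i₁.le.trans inf_le_right) t = 0 := by
    refine Groth.Agent.HomShQC.sec_ext E (U := ν ⁻¹ᵁ W₁) fun y hy => ?_
    have h2 := congrArg (germM E (ν ⁻¹ᵁ W₁) y hy) (show ν.app W₁ r₁ • t' = 0 from hz')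
    rw [germM_smul] at h2
    haveI := hE y
    refine Eq.trans ?_ (map_zero _).symm
    exact (smul_eq_zero.mp (h2.trans (map_zero _))).resolve_left (Groth.Agent.Ref1.germ_ne_zero hy hνr)
  rw [← Groth.Agent.HomShQC.germM_res M (i₁.le.trans inf_le_right) x hW₁ t, ht]
  exact map_zero _

section Curve

variable (X) [IsIntegral X] [IsLocallyNoetherian X]
  [QuasiCompact (X.fromSpecStalk (genericPoint X))] [QuasiSeparated (X.fromSpecStalk (genericPoint X))]
  [IsFinite (Curv2.normalizationι X)]

omit [IsFinite (Curv2.normalizationι X)] in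
/-- The local rings of the normalization of a curve are principal ideal rings. -/
theorem isPrincipalIdealRing_stalk_normalization (hdim : topologicalKrullDim X = 1)
    (y : Curv2.normalization X) : IsPrincipalIdealRing ((Curv2.normalization X).presheaf.stalk y) := by
  haveI := Groth.Agent.Curv2Norm.isIntegral X
  obtain ⟨A, hA, hyA, -⟩ := exists_isAffineOpen_mem_and_subset (X := Curv2.normalization X) (Opens.mem_top y)
  haveI : Nonempty A := ⟨⟨y, hyA⟩⟩
  haveI := Groth.Agent.Curv2Norm.isDedekindDomain_sections X hdim hA ⟨y, hyA⟩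
  letI := (Curv2.normalization X).presheaf.algebra_section_stalk ⟨y, hyA⟩
  haveI := hA.isLocalization_stalk ⟨y, hyA⟩
  haveI : IsDedekindDomain ((Curv2.normalization X).presheaf.stalk y) :=
    IsLocalization.isDedekindDomain Γ(Curv2.normalization X, A)
      (hA.primeIdealOf ⟨y, hyA⟩).asIdeal.primeCompl_le_nonZeroDivisors
      ((Curv2.normalization X).presheaf.stalk y)
  refine IsPrincipalIdealRing.of_finite_primes (Set.Finite.subset
    (Set.toFinite {⊥, IsLocalRing.maximalIdeal ((Curv2.normalization X).presheaf.stalk y)}) fun I hI => ?_)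
  rcases eq_or_ne I ⊥ with h | h
  · exact Or.inl h
  · haveI : I.IsPrime := hI
    exact Or.inr (IsLocalRing.eq_maximalIdeal (Ring.DimensionLEOne.maximalOfPrime h inferInstance))

omit [IsLocallyNoetherian X] [IsFinite (Curv2.normalizationι X)] in
/-- The generic point of the normalization lies over the generic point. -/
theorem normalizationι_genericPoint [IsIntegral (Curv2.normalization X)] :
    Curv2.normalizationι X (genericPoint (Curv2.normalization X)) = genericPoint X := by
  haveI := Groth.Agent.Curv2Norm.isDominant X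
  refine IsGenericPoint.eq ?_ (genericPoint_spec X)
  refine Set.eq_univ_of_univ_subset ?_
  rw [← (Curv2.normalizationι X).denseRange.closure_range]
  refine closure_minimal ?_ isClosed_closure
  rintro _ ⟨z, rfl⟩
  exact specializes_iff_mem_closure.mp ((genericPoint_specializes z).map (Curv2.normalizationι X).continuous)

omit [IsLocallyNoetherian X] [IsFinite (Curv2.normalizationι X)] in
/-- Elements of the sections of the normalization act on stalks that are `Õ_x ^ n`. -/
theorem exists_integral_smul {n : ℕ} (F : X.Modules) {U : X.Opens} (hU : IsAffineOpen U) {x : X} (hx : x ∈ U)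
    (φ : F.presheaf.stalk x ≃ₗ[X.presheaf.stalk x] (Fin n → integralClosure (X.presheaf.stalk x) X.functionField))
    (s : Γ(Curv2.normalization X, Curv2.normalizationι X ⁻¹ᵁ U)) (v : F.presheaf.stalk x) :
    ∃ (a r : Γ(X, U)) (w : F.presheaf.stalk x), X.presheaf.germ U x hx r ≠ 0 ∧
      (Curv2.normalizationι X).app U r * s = (Curv2.normalizationι X).app U a ∧
      X.presheaf.germ U x hx r • w = X.presheaf.germ U x hx a • v := by
  haveI : Nonempty U := ⟨⟨x, hx⟩⟩
  obtain ⟨hinjU, hfrac⟩ := Groth.Agent.NormUniv.normalizationι_frac X U hU ⟨x, hx⟩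
  obtain ⟨a, r, hr, hra⟩ := hfrac s
  obtain ⟨θ, hθ⟩ := Groth.Agent.Curv2Norm.exists_sections_equiv X hU
  letI := X.presheaf.algebra_section_stalk ⟨x, hx⟩
  haveI : IsScalarTower Γ(X, U) (X.presheaf.stalk x) X.functionField := functionField_isScalarTower X U ⟨x, hx⟩
  have hint : IsIntegral (X.presheaf.stalk x) (θ s).1 := IsIntegral.tower_top (θ s).2
  have hσ : algebraMap Γ(X, U) X.functionField r * (θ s).1 = algebraMap Γ(X, U) X.functionField a := by
    have h := congrArg (fun z => (θ z).1) hra
    simp only [map_mul, hθ] at h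
    exact h
  refine ⟨a, r, φ.symm fun i => (⟨(θ s).1, hint⟩ : integralClosure (X.presheaf.stalk x) X.functionField) * φ v i,
    Groth.Agent.Ref1.germ_ne_zero hx hr, hra, φ.injective ?_⟩
  rw [map_smul, map_smul, LinearEquiv.apply_symm_apply]
  refine funext fun i => Subtype.ext ?_
  change algebraMap (X.presheaf.stalk x) X.functionField (X.presheaf.germ U x hx r) * ((θ s).1 * (φ v i).1) =
    algebraMap (X.presheaf.stalk x) X.functionField (X.presheaf.germ U x hx a) * (φ v i).1
  rw [← mul_assoc]
  refine congrArg (fun z => z * (φ v i).1) ?_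
  have e : ∀ q : Γ(X, U), algebraMap (X.presheaf.stalk x) X.functionField (X.presheaf.germ U x hx q) =
      algebraMap Γ(X, U) X.functionField q := fun q =>
    (IsScalarTower.algebraMap_apply Γ(X, U) (X.presheaf.stalk x) X.functionField q).symm
  rw [e, e, hσ]

omit [QuasiCompact (X.fromSpecStalk (genericPoint X))] [QuasiSeparated (X.fromSpecStalk (genericPoint X))]
  [IsFinite (Curv2.normalizationι X)] [IsLocallyNoetherian X] in
/-- The rank of a module with stalk `Õ_x ^ n` at the generic point. -/
theorem rk_eq_of_integralClosure {n : ℕ} (F : X.Modules)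
    (hF : ∀ x : X, Nonempty (F.presheaf.stalk x ≃ₗ[X.presheaf.stalk x]
      (Fin n → integralClosure (X.presheaf.stalk x) X.functionField))) :
    Groth.Agent.VBLib.rk F = n := by
  suffices ∀ ξ : X, IsField (X.presheaf.stalk ξ) →
      Module.finrank (X.presheaf.stalk ξ) (F.presheaf.stalk ξ) = n from
    this (genericPoint X) (Field.toIsField X.functionField)
  intro ξ hξ
  obtain ⟨φ⟩ := hF ξ
  have hb : Function.Bijective (Algebra.linearMap (X.presheaf.stalk ξ)
      (integralClosure (X.presheaf.stalk ξ) X.functionField)) := by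
    constructor
    · intro p q h
      exact IsFractionRing.injective (X.presheaf.stalk ξ) X.functionField (congrArg Subtype.val h)
    · intro z
      obtain ⟨p, q, hq, h⟩ := IsFractionRing.div_surjective (X.presheaf.stalk ξ) z.1
      obtain ⟨q', hq'⟩ := hξ.mul_inv_cancel (nonZeroDivisors.ne_zero hq)
      refine ⟨p * q', Subtype.ext ?_⟩
      have h1 : algebraMap (X.presheaf.stalk ξ) X.functionField q *
          algebraMap (X.presheaf.stalk ξ) X.functionField q' = 1 := by rw [← map_mul, hq', map_one]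
      refine (map_mul (algebraMap (X.presheaf.stalk ξ) X.functionField) p q').trans ?_
      rw [← h, div_eq_mul_inv, eq_inv_of_mul_eq_one_right h1]
  refine (φ.trans (LinearEquiv.piCongrRight fun _ => (LinearEquiv.ofBijective _ hb).symm)).finrank_eq.trans ?_
  exact Module.finrank_fin_fun _

/-- A coherent module with stalks `Õ_x ^ n` is the direct image of a bundle of rank `n`. -/
theorem exists_locFree_push_iso (hdim : topologicalKrullDim X = 1) {n : ℕ} (F : X.Modules) (hFc : Coh.IsCoh F)
    (hF : ∀ x : X, Nonempty (F.presheaf.stalk x ≃ₗ[X.presheaf.stalk x]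
      (Fin n → integralClosure (X.presheaf.stalk x) X.functionField))) :
    ∃ E : (Curv2.normalization X).Modules, FlatMod.IsFinLocFreeOfRank n E ∧
      Nonempty ((Scheme.Modules.pushforward (Curv2.normalizationι X)).obj E ≅ F) := by
  have φ' := fun x => (hF x).some
  haveI := Groth.Agent.Curv2Norm.isIntegral X
  haveI := Groth.Agent.Curv2Norm.isLocallyNoetherian X hdim
  haveI := hFc.1
  let ν := Curv2.normalizationι X
  let adj := Scheme.Modules.pullbackPushforwardAdjunction ν
  let P := (Scheme.Modules.pullback ν).obj F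
  have hPc : Coh.IsCoh P := Groth.Agent.ZClosLib.CohDescent.isCoh_pullback ν F hFc
  haveI := hPc.1
  let E := RefHull.ddual P
  have hDc := Groth.Agent.HomShQC.isCoh_dual P hPc
  have hEc : Coh.IsCoh E := Groth.Agent.HomShQC.isCoh_dual _ hDc
  haveI := hEc.1
  have hEt : TorSh.IsTorsionFree E := fun y =>
    (Groth.Agent.HomShQC.dualEquiv (RefHull.dual P) (Groth.Agent.HomShQC.isFP_of_isCoh _ hDc) y).injective.moduleIsTorsionFree
      (Groth.Agent.HomShQC.dualEquiv (RefHull.dual P) (Groth.Agent.HomShQC.isFP_of_isCoh _ hDc) y) (map_smul _)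
  have hPIR := isPrincipalIdealRing_stalk_normalization X hdim
  have hElf := Groth.Agent.VBLib.isFinLocFree_of_torsionFree hPIR hEc hEt
  have hsurj : ∀ y, Function.Surjective (stalkLin (RefHull.bidualMap P) y) := fun y => by
    haveI := hPIR y
    by_cases hf : IsField ((Curv2.normalization X).presheaf.stalk y)
    · letI := hf.toField
      exact (Groth.Agent.Ref1.bijective_bidual_of_free P hPc y).2
    · haveI : IsDiscreteValuationRing ((Curv2.normalization X).presheaf.stalk y) :=
        { not_a_field' := fun h => hf (IsLocalRing.isField_iff_maximalIdeal_eq.mpr h) }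
      exact Groth.Agent.Ref1.surjective_bidual_of_dvr P hPc y
  let u : F ⟶ (Scheme.Modules.pushforward ν).obj E := adj.homEquiv F E (RefHull.bidualMap P)
  have hu : ∀ (U : X.Opens) (m : Γ(F, U)),
      u.app U m = (RefHull.bidualMap P).app (ν ⁻¹ᵁ U) (eta ν F U m) := fun U m => by
    rw [eta_eq]
    exact congrArg (fun ψ : F ⟶ (Scheme.Modules.pushforward ν).obj E => ψ.app U m)
      (adj.homEquiv_unit F E (RefHull.bidualMap P))
  have hux : ∀ (x : X) (U : X.Opens) (hx : x ∈ U) (m : Γ(F, U)), stalkLin u x (germM F U x hx m) =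
      germM ((Scheme.Modules.pushforward ν).obj E) U x hx
        ((RefHull.bidualMap P).app (ν ⁻¹ᵁ U) (eta ν F U m)) := fun x U hx m =>
    (stalkLin_germ u U x hx m).trans (congrArg _ (hu U m))
  obtain ⟨V, hVd, hViso⟩ := Groth.Agent.Curv2Norm.exists_dense_isIso X
  have hηV : genericPoint X ∈ V := by
    obtain ⟨y, hy⟩ := hVd.nonempty
    exact (genericPoint_specializes y).mem_open V.2 hy
  have hνη := normalizationι_genericPoint X
  -- injectivity
  have huinj : ∀ x, Function.Injective (stalkLin u x) := by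
    intro x
    rw [injective_iff_map_eq_zero]
    intro v hv
    obtain ⟨W, hW, m, rfl⟩ := exists_germM_eq F x v
    rw [hux] at hv
    obtain ⟨W', hW', i₁, i₂, hz⟩ := ((Scheme.Modules.pushforward ν).obj E).presheaf.germ_eq x hW hW
      ((RefHull.bidualMap P).app (ν ⁻¹ᵁ W) (eta ν F W m) : Γ((Scheme.Modules.pushforward ν).obj E, W)) 0
      (hv.trans (map_zero _).symm)
    have hηW' : genericPoint X ∈ W' := (hsp x).mem_open W'.2 hW'
    obtain ⟨A, hA, hηA, hAle⟩ := exists_isAffineOpen_mem_and_subset
      (show genericPoint X ∈ W' ⊓ V from ⟨hηW', hηV⟩)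
    have hAW : A ≤ W := fun z hz' => i₁.le (hAle hz').1
    have hb : Function.Bijective (ν.app A) := bijective_app_of_le ν (U := V) fun z hz' => (hAle hz').2
    let mA := Groth.Agent.QCoh.res F hAW m
    have h0 : (RefHull.bidualMap P).app (ν ⁻¹ᵁ A) (eta ν F A mA) = 0 := by
      rw [← hu]
      have hnat : u.app A (Groth.Agent.QCoh.res F hAW m) =
          Groth.Agent.QCoh.res ((Scheme.Modules.pushforward ν).obj E) hAW (u.app W m) :=
        Groth.Agent.QCoh.app_res u hAW m
      refine hnat.trans ?_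
      rw [← Groth.Agent.QCoh.res_res ((Scheme.Modules.pushforward ν).obj E) i₁.le (fun z hz' => (hAle hz').1),
        hu]
      exact (congrArg _ (hz.trans (map_zero _))).trans (map_zero _)
    have hyA : genericPoint (Curv2.normalization X) ∈ ν ⁻¹ᵁ A := by
      show ν _ ∈ A
      rw [hνη]; exact hηA
    have h1 : germM P (ν ⁻¹ᵁ A) _ hyA (eta ν F A mA) = 0 := by
      apply (Groth.Agent.Ref1.bijective_bidual_η P hPc).1
      refine ((RefHull.stalkMapₗ_germ _ _ hyA _).trans ?_).trans (map_zero _).symm
      rw [h0]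
      exact map_zero _
    obtain ⟨s, hs, hs0⟩ := Groth.Agent.CycLib.exists_smul_eq_zero_of_germ_eq_zero P (hA.preimage ν) hyA _ h1
    obtain ⟨r, rfl⟩ := hb.2 s
    rw [← eta_smul] at hs0
    have h2 : r • mA = 0 := (bijective_eta ν F hA hb).1 (hs0.trans (map_zero _).symm)
    have hr : r ≠ 0 := fun h => by
      rw [h, map_zero, map_zero] at hs
      exact not_isUnit_zero hs
    have h3 : germM F A (genericPoint X) hηA mA = 0 := by
      have h := congrArg (germM F A (genericPoint X) hηA) h2
      rw [germM_smul, show germM F A (genericPoint X) hηA (0 : Γ(F, A)) = 0 from map_zero _,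
        (Groth.Agent.Ref1.isUnit_of_ne_zero (Groth.Agent.Ref1.germ_ne_zero hηA hr)).smul_eq_zero] at h
      exact h
    have htf : Module.IsTorsionFree (X.presheaf.stalk x) (F.presheaf.stalk x) := by
      haveI : Module.IsTorsionFree (X.presheaf.stalk x) (integralClosure (X.presheaf.stalk x) X.functionField) :=
        Subtype.val_injective.moduleIsTorsionFree _ fun _ _ => rfl
      exact (φ' x).injective.moduleIsTorsionFree (φ' x) (map_smul _)
    refine toη_injective F x htf ?_
    rw [map_zero, toη, sp_germ, ← h3, Groth.Agent.HomShQC.germM_res]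
  -- surjectivity
  haveI : Epi (RefHull.bidualMap P) := Groth.Agent.Omega.Stalks.epi_of_stalk hsurj
  have husurj : ∀ x, Function.Surjective (stalkLin u x) := by
    intro x t
    let M := (Scheme.Modules.pushforward ν).obj E
    obtain ⟨W, hW, e, rfl⟩ := exists_germM_eq M x t
    obtain ⟨U, hU, hxU, hUW⟩ := exists_isAffineOpen_mem_and_subset hW
    rw [← Groth.Agent.HomShQC.germM_res M hUW x hxU e]
    generalize (Groth.Agent.QCoh.res M hUW e : Γ(M, U)) = e'
    obtain ⟨p, hp⟩ := Groth.Agent.QCoh.app_surjective_of_epi (RefHull.bidualMap P) (hU.preimage ν) e'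
    rw [← hp]
    clear hp e'
    have hp' : p ∈ Submodule.span Γ(Curv2.normalization X, ν ⁻¹ᵁ U) (Set.range (eta ν F U)) :=
      span_eta ν F hU ▸ Submodule.mem_top
    change germM M U x hxU ((RefHull.bidualMap P).app (ν ⁻¹ᵁ U) p) ∈ LinearMap.range (stalkLin u x)
    induction hp' using Submodule.span_induction with
    | mem q hq =>
      obtain ⟨m, rfl⟩ := hq
      exact ⟨germM F U x hxU m, hux x U hxU m⟩
    | zero => exact ⟨0, by rw [map_zero, map_zero]; exact (map_zero _).symm⟩
    | add q q' _ _ hq hq' =>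
      let q₁ : Γ(M, U) := (RefHull.bidualMap P).app (ν ⁻¹ᵁ U) q
      let q₂ : Γ(M, U) := (RefHull.bidualMap P).app (ν ⁻¹ᵁ U) q'
      have e : ((RefHull.bidualMap P).app (ν ⁻¹ᵁ U) (q + q') : Γ(M, U)) = q₁ + q₂ := map_add _ q q'
      have e2 : germM M U x hxU (q₁ + q₂) = germM M U x hxU q₁ + germM M U x hxU q₂ :=
        map_add (M.presheaf.germ U x hxU).hom q₁ q₂
      exact ((congrArg (germM M U x hxU) e).trans e2) ▸ add_mem hq hq'
    | smul s q _ hq =>
      obtain ⟨v, hv⟩ := hq
      obtain ⟨a, r, w, hr, hra, hw⟩ := exists_integral_smul X F hU hxU (φ' x) s v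
      refine ⟨w, sub_eq_zero.mp (stalk_push_cancel ν (Groth.Agent.Curv2Norm.app_injective X) E hEt x hr _ ?_)⟩
      rw [smul_sub, ← map_smul, hw, map_smul, hv, sub_eq_zero]
      let q₁ : Γ(M, U) := (RefHull.bidualMap P).app (ν ⁻¹ᵁ U) q
      let q₂ : Γ(M, U) := (RefHull.bidualMap P).app (ν ⁻¹ᵁ U) (s • q)
      have key : a • q₁ = r • q₂ := by
        change (ν.app U a) • ((RefHull.bidualMap P).app (ν ⁻¹ᵁ U) q) =
          (ν.app U r) • ((RefHull.bidualMap P).app (ν ⁻¹ᵁ U) (s • q))
        rw [Scheme.Modules.Hom.app_smul, smul_smul, hra]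
      exact (germM_smul M U x hxU a q₁).symm.trans
        ((congrArg (germM M U x hxU) key).trans (germM_smul M U x hxU r q₂))
  haveI : IsIso u := Groth.Agent.Omega.Stalks.isIso_of_stalk fun x => ⟨huinj x, husurj x⟩
  -- the rank
  obtain ⟨G, d, hηG, ⟨ψ⟩⟩ := hElf (genericPoint (Curv2.normalization X))
  obtain ⟨e, he⟩ := Groth.Agent.VBLib.exists_isFrame_of_iso ψ
  have hd : Groth.Agent.VBLib.rk E = d := Groth.Agent.VBLib.rk_eq_of_isFrame he hηG
  let W : X.Opens := V ⊓ ⟨(ν '' ((G : Set (Curv2.normalization X))ᶜ))ᶜ,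
    (ν.isClosedMap _ G.2.isClosed_compl).isOpen_compl⟩
  have hWG : ν ⁻¹ᵁ W ≤ G := fun z hz => by_contra fun h => hz.2 ⟨z, h, rfl⟩
  have hηW : genericPoint X ∈ W := by
    refine ⟨hηV, ?_⟩
    rintro ⟨z, hz, hzx⟩
    haveI := isDiscrete_iff_discreteTopology.mp (ν.isDiscrete_preimage_singleton (genericPoint X))
    have h' : (⟨_, hνη⟩ : ν ⁻¹' {genericPoint X}) ⤳ ⟨z, hzx⟩ :=
      Topology.IsInducing.subtypeVal.specializes_iff.mp (genericPoint_specializes z)
    have e : genericPoint (Curv2.normalization X) = z := congrArg Subtype.val h'.eq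
    exact hz (e ▸ hηG)
  let e' : Fin d → Γ((Scheme.Modules.pushforward ν).obj E, W) := fun i => Groth.Agent.QCoh.res E hWG (e i)
  have he' : Groth.Agent.LFFrame.IsFrame ((Scheme.Modules.pushforward ν).obj E) W e' := by
    intro W' hW'
    have hb := bijective_app_of_le ν (U := V) (hW'.trans inf_le_left)
    have hf := he (ν ⁻¹ᵁ W') ((ν.preimage_mono hW').trans hWG)
    have hcomb : Groth.Agent.LFFrame.comb ((Scheme.Modules.pushforward ν).obj E) e' hW' =
        Groth.Agent.LFFrame.comb E e ((ν.preimage_mono hW').trans hWG) ∘ fun a i => ν.app W' (a i) :=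
      funext fun a => Finset.sum_congr rfl fun i _ => by
        change ν.app W' (a i) • Groth.Agent.QCoh.res E (ν.preimage_mono hW') (Groth.Agent.QCoh.res E hWG (e i)) = _
        rw [Groth.Agent.QCoh.res_res]
    rw [hcomb]
    exact hf.comp (hb.comp_left)
  have hrk : Groth.Agent.VBLib.rk E = n := by
    rw [hd, ← Groth.Agent.VBLib.rk_eq_of_isFrame he' hηW, ← rk_eq_of_integralClosure X F hF]
    exact (LinearEquiv.ofBijective _ (show Function.Bijective (stalkLin u (genericPoint X)) from
      ⟨huinj _, husurj _⟩)).finrank_eq.symm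
  exact ⟨E, hrk ▸ Groth.Agent.VBLib.ofRank_rk hElf, ⟨(asIso u).symm⟩⟩

end Curve

end Groth.Agent.TFCurvLib

end
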