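import Groth.Agent.TFCurvLib.NormPushCurve
import Groth.Agent.HilbPolyX.Sheaf
import Groth.Agent.HilbPolyX.Order
import Groth.Agent.TwistFlat.Projection
import Groth.Agent.ShStabLib.BaseChangeField
import Groth.Agent.EulerChar.Push
import Groth.Agent.EulerChar.Curve
import Groth.Agent.S4717

/-!
# Semistability and direct image along a finite birational morphism of curves
-/

universe u

open CategoryTheory Limits AlgebraicGeometry Opposite TopologicalSpace
open Groth.Agent.PullStalk.Sky Groth.Agent.PullStalk.Exact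
open Groth.Agent.Ref1 (hsp toη toK sp sp_smul sp_germ spR_germ toK_ne_zero toη_injective toK_injective exists_smul_eq_toη)
open StabCat Groth.Agent.HilbPolyX

set_option linter.style.haveILetI false

noncomputable section

namespace Groth.Agent.TFCurvLib

/-- Torsion-free modules on integral schemes are pure. -/
theorem isPure_of_isTorsionFree {X : Scheme.{u}} [IsIntegral X] {d : ℕ}
    (hd : topologicalKrullDim X = (d : WithBot ℕ∞)) (E : X.Modules) (hE : TorSh.IsTorsionFree E) :
    ShStab.IsPure X E d := by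
  intro F ι hι hF hF0
  haveI := hF.1
  have hFt : ∀ y, Module.IsTorsionFree (X.presheaf.stalk y) (F.presheaf.stalk y) := fun y => by
    haveI := hE y
    exact (Groth.Agent.VBLib.stalkLin_injective ι y).moduleIsTorsionFree (stalkLin ι y) (map_smul _)
  have hη : ¬ Subsingleton (F.presheaf.stalk (genericPoint X)) := fun h =>
    hF0 (Groth.Agent.CohDev.isZero_of_support_eq_empty (Set.eq_empty_iff_forall_notMem.mpr fun y hy =>
      hy ⟨fun a b => toη_injective F y (hFt y) (h.elim _ _)⟩))
  have hs : CohB1.support F = Set.univ := Set.eq_univ_iff_forall.mpr fun y hy => hη (by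
    refine subsingleton_of_forall_eq 0 fun w => ?_
    obtain ⟨a, v, ha, hv⟩ := exists_smul_eq_toη F y w
    rw [hy.elim v 0, map_zero] at hv
    exact (Groth.Agent.Ref1.isUnit_of_ne_zero (toK_ne_zero ha)).smul_eq_zero.mp hv.symm)
  rw [hs, IsHomeomorph.topologicalKrullDim_eq _ (Homeomorph.Set.univ _).isHomeomorph, hd]

variable {X Y : Scheme.{u}} (ν : Y ⟶ X)

/-- Direct images along finite morphisms reflect zero objects. -/
theorem isZero_of_push [IsAffineHom ν] (E : Y.Modules) [E.IsQuasicoherent]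
    (h : IsZero ((Scheme.Modules.pushforward ν).obj E)) : IsZero E := by
  haveI := epi_eps ν E
  exact IsZero.of_epi (eps ν E) (Functor.map_isZero _ h)

section

variable (k : Type u) [Field k] [X.Over (Spec (CommRingCat.of k))] [Y.Over (Spec (CommRingCat.of k))]
  [IsProper (X ↘ Spec (CommRingCat.of k))] [IsProper (Y ↘ Spec (CommRingCat.of k))] [IsFinite ν]
  (w : ν ≫ (X ↘ Spec (CommRingCat.of k)) = Y ↘ Spec (CommRingCat.of k))
  {L : X.Modules} (hL : CohB1.IsAmple L) (hL' : CohB1.IsAmple ((Scheme.Modules.pullback ν).obj L))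

include w hL hL' in
/-- Hilbert polynomials are preserved by finite direct image. -/
theorem hilb_push (G : Y.Modules) (hG : Coh.IsCoh G) :
    hilb k ((Scheme.Modules.pullback ν).obj L) G = hilb k L ((Scheme.Modules.pushforward ν).obj G) := by
  refine eq_hilb k hL (Groth.Agent.ProperFin.isCoh_push_of_isFinite ν G hG) fun m => ?_
  rw [← isHilbPoly_hilb k hL' hG m]
  have hLm := Groth.Agent.AmpleLib.isInvertible_tensorPow hL.1 m
  obtain ⟨e⟩ := Groth.Agent.ShStabLib.pullback_tensorPow ν L m
  let e' : CohB1.tensorMod G ((Scheme.Modules.pullback ν).obj (CohB1.tensorPow L m)) ≅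
      ShStab.twist Y ((Scheme.Modules.pullback ν).obj L) G m :=
    Groth.Agent.ProjTwist.tensCongr (Iso.refl G) e
  have hc : Coh.IsCoh (CohB1.tensorMod G ((Scheme.Modules.pullback ν).obj (CohB1.tensorPow L m))) :=
    Groth.Agent.CohDev.isCoh_of_iso e'.symm (isCoh_twist k hL'.1 hG m)
  rw [ShStab.twist, Groth.Agent.EulerChar.euler_iso k (Groth.Agent.TwistFlat.projIso ν G _ hLm),
    ← Groth.Agent.EulerChar.euler_iso k e']
  exact congrArg (fun z : ℤ => (z : ℚ)) (Groth.Agent.EulerChar.euler_push ν w _ hc.1)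

variable [IsIntegral X] [IsIntegral Y] [Surjective ν] (hdim : topologicalKrullDim X = 1)
  (hinj : ∀ W : X.Opens, Function.Injective (ν.app W))
  {V : X.Opens} (hηV : genericPoint X ∈ V) [IsIso (ν ∣_ V)]
  (hνη : ν (genericPoint Y) = genericPoint X)
  (E : Y.Modules) (hEc : Coh.IsCoh E) (hEt : TorSh.IsTorsionFree E)

include hinj hEt in
omit [Field k] [X.Over (Spec (CommRingCat.of k))] [Y.Over (Spec (CommRingCat.of k))]
  [IsProper (X ↘ Spec (CommRingCat.of k))] [IsProper (Y ↘ Spec (CommRingCat.of k))] [IsFinite ν]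
  [IsIntegral X] [Surjective ν] [IsIso (ν ∣_ V)] in
/-- Direct images of torsion-free modules are torsion-free. -/
theorem isTorsionFree_push : TorSh.IsTorsionFree ((Scheme.Modules.pushforward ν).obj E) := fun x =>
  ⟨fun r hr a b h => sub_eq_zero.mp (stalk_push_cancel ν hinj E hEt x hr.ne_zero _
    (by rw [smul_sub, sub_eq_zero]; exact h))⟩

include ν k hdim in
omit [Y.Over (Spec (CommRingCat.of k))] [IsProper (Y ↘ Spec (CommRingCat.of k))] [IsIntegral X] [IsIntegral Y] [IsIso (ν ∣_ V)] in
theorem dim_eq_one : topologicalKrullDim Y = ((1 : ℕ) : WithBot ℕ∞) := by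
  haveI := Groth.Agent.EulerChar.isLocallyNoetherian k (X := X)
  haveI : IsLocallyNoetherian Y := LocallyOfFiniteType.isLocallyNoetherian ν
  rw [((Groth.Agent.S4717.result ν).2 ν.surjective), hdim]
  rfl

include hηV hνη in
omit [Field k] [X.Over (Spec (CommRingCat.of k))] [Y.Over (Spec (CommRingCat.of k))]
  [IsProper (X ↘ Spec (CommRingCat.of k))] [IsProper (Y ↘ Spec (CommRingCat.of k))] [Surjective ν] [IsFinite ν] in
theorem exists_chart : ∃ U : X.Opens, IsAffineOpen U ∧ Function.Bijective (ν.app U) ∧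
    ν (genericPoint Y) ∈ U := by
  obtain ⟨U, hU, hηU, hUV⟩ := exists_isAffineOpen_mem_and_subset hηV
  exact ⟨U, hU, bijective_app_of_le ν (U := V) hUV, hνη.symm ▸ hηU⟩

include hEt hνη hηV in
omit [Field k] [X.Over (Spec (CommRingCat.of k))] [Y.Over (Spec (CommRingCat.of k))]
  [IsProper (X ↘ Spec (CommRingCat.of k))] [IsProper (Y ↘ Spec (CommRingCat.of k))] [Surjective ν] in
/-- An isomorphism after direct image is an isomorphism. -/
theorem isIso_of_push [E.IsQuasicoherent] {G : Y.Modules} [G.IsQuasicoherent] (i : G ⟶ E) [Mono i]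
    [IsIso ((Scheme.Modules.pushforward ν).map i)] : IsIso i := by
  obtain ⟨U, hU, hb, hη⟩ := exists_chart ν hηV hνη
  have hGt : TorSh.IsTorsionFree G := fun y => by
    haveI := hEt y
    exact (Groth.Agent.VBLib.stalkLin_injective i y).moduleIsTorsionFree (stalkLin i y) (map_smul _)
  obtain ⟨j, hj⟩ := exists_eps_comp_eq ν E G hGt hU hb hη (inv ((Scheme.Modules.pushforward ν).map i))
  exact ⟨j, eq_of_push_map_eq ν _ _ (by rw [Functor.map_comp, hj, IsIso.hom_inv_id, CategoryTheory.Functor.map_id]),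
    eq_of_push_map_eq ν _ _ (by rw [Functor.map_comp, hj, IsIso.inv_hom_id, CategoryTheory.Functor.map_id])⟩

include k w hL hL' hdim hηV hEc in
omit [IsIntegral Y] [Surjective ν] in
/-- The subsheaves of a direct image, up to a torsion quotient, come from the source. -/
theorem exists_saturation {F : X.Modules} (ι : F ⟶ (Scheme.Modules.pushforward ν).obj E) [Mono ι]
    (hF : Coh.IsCoh F) (hF0 : ¬ IsZero F) :
    ∃ (G : Y.Modules) (i : G ⟶ E) (c : Polynomial ℚ), Mono i ∧ Coh.IsCoh G ∧ ¬ IsZero G ∧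
      hilb k ((Scheme.Modules.pullback ν).obj L) G = hilb k L F + c ∧ alpha 1 c = 0 ∧ PolyLE 0 c ∧
      (IsIso i → ¬ IsIso ι → PolyLT 0 c) := by
  haveI := hEc.1
  haveI := hF.1
  haveI := Groth.Agent.EulerChar.isLocallyNoetherian k (X := X)
  haveI : IsLocallyNoetherian Y := LocallyOfFiniteType.isLocallyNoetherian ν
  let adj := Scheme.Modules.pullbackPushforwardAdjunction ν
  let g := (adj.homEquiv F E).symm ι
  have hPc : Coh.IsCoh ((Scheme.Modules.pullback ν).obj F) :=
    Groth.Agent.ZClosLib.CohDescent.isCoh_pullback ν F hF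
  haveI := hPc.1
  let G := Abelian.image g
  let p := Abelian.factorThruImage g
  let i := Abelian.image.ι g
  have hGc : Coh.IsCoh G := Groth.Agent.VBLib.isCoh_image g hPc hEc
  haveI := hGc.1
  let j : F ⟶ (Scheme.Modules.pushforward ν).obj G := adj.homEquiv F G p
  have hji : j ≫ (Scheme.Modules.pushforward ν).map i = ι := by
    rw [← adj.homEquiv_naturality_right, Abelian.image.fac g]
    exact Equiv.apply_symm_apply _ ι
  haveI : Mono (j ≫ (Scheme.Modules.pushforward ν).map i) := hji ▸ inferInstance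
  haveI : Mono j := mono_of_mono j ((Scheme.Modules.pushforward ν).map i)
  have hMc := Groth.Agent.ProperFin.isCoh_push_of_isFinite ν G hGc
  have hG0 : ¬ IsZero G := fun h =>
    hF0 (IsZero.of_mono j (Functor.map_isZero (Scheme.Modules.pushforward ν) h))
  have hQc := isCoh_of_monoCokernel j hF hMc
  -- the quotient vanishes generically
  have hsurj : Function.Surjective (stalkLin j (genericPoint X)) := fun t => by
    obtain ⟨W, hW, t, rfl⟩ := exists_germM_eq ((Scheme.Modules.pushforward ν).obj G) (genericPoint X) t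
    obtain ⟨A, hA, hηA, hAle⟩ := exists_isAffineOpen_mem_and_subset
      (show genericPoint X ∈ W ⊓ V from ⟨hW, hηV⟩)
    have hb : Function.Bijective (ν.app A) := bijective_app_of_le ν (U := V) fun z hz => (hAle hz).2
    have hAW : A ≤ W := fun z hz => (hAle hz).1
    rw [← Groth.Agent.HomShQC.germM_res ((Scheme.Modules.pushforward ν).obj G) hAW (genericPoint X) hηA t]
    generalize (Groth.Agent.QCoh.res ((Scheme.Modules.pushforward ν).obj G) hAW t) = t'
    obtain ⟨q, hq⟩ := Groth.Agent.QCoh.app_surjective_of_epi p (hA.preimage ν) t'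
    obtain ⟨m, rfl⟩ := (bijective_eta ν F hA hb).2 q
    refine ⟨germM F A (genericPoint X) hηA m, (stalkLin_germ j A _ hηA m).trans (congrArg _ ?_)⟩
    refine Eq.trans ?_ hq
    rw [eta_eq]
    exact congrArg (fun ψ : F ⟶ (Scheme.Modules.pushforward ν).obj G => ψ.app A m) (adj.homEquiv_unit F G p)
  have hξ : genericPoint X ∉ CohB1.support (cokernel j) := fun h =>
    h (subsingleton_cokernel_stalk j _ hsurj)
  have hd := Groth.Agent.EulerChar.dim_support_le_zero k hdim hQc hξ
  refine ⟨G, i, hilb k L (cokernel j), inferInstance, hGc, hG0, ?_, ?_, hilb_nonneg k hL hQc, fun hi hι => ?_⟩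
  · rw [hilb_push ν k w hL hL' G hGc, hilb_mono k hL j hF hMc]
  · exact alpha_hilb_eq_zero k hL hQc (lt_of_le_of_lt hd (by simp))
  · refine hilb_pos k hL hQc fun h0 => hι ?_
    haveI := isIso_of_mono_of_cokernel j h0
    rw [← hji]
    infer_instance

include k w hL hL' hdim hinj hEc hEt in
omit [IsIso (ν ∣_ V)] in
/-- The data common to both stability equivalences. -/
theorem push_data : (IsZero ((Scheme.Modules.pushforward ν).obj E) ↔ IsZero E) ∧
    Coh.IsCoh ((Scheme.Modules.pushforward ν).obj E) ∧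
    ShStab.IsPure Y E 1 ∧ ShStab.IsPure X ((Scheme.Modules.pushforward ν).obj E) 1 ∧
    hilb k ((Scheme.Modules.pullback ν).obj L) E = hilb k L ((Scheme.Modules.pushforward ν).obj E) ∧
    (¬ IsZero E → 0 < alpha 1 (hilb k ((Scheme.Modules.pullback ν).obj L) E)) := by
  haveI := hEc.1
  have hY := isPure_of_isTorsionFree (dim_eq_one ν k hdim) E hEt
  refine ⟨⟨isZero_of_push ν E, fun h => Functor.map_isZero _ h⟩,
    Groth.Agent.ProperFin.isCoh_push_of_isFinite ν E hEc, hY,
    isPure_of_isTorsionFree (d := 1) (hdim.trans Nat.cast_one.symm) _ (isTorsionFree_push ν hinj E hEt),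
    hilb_push ν k w hL hL' E hEc, fun h0 => alpha_hilb_pos k hL' hEc (dim_of_isPure hEc h0 hY)⟩

include k w hL hL' hdim hinj hηV hνη hEc hEt in
theorem isSemistable_push_iff :
    ShStab.IsSemistable k Y ((Scheme.Modules.pullback ν).obj L) E 1 ↔
      ShStab.IsSemistable k X L ((Scheme.Modules.pushforward ν).obj E) 1 := by
  obtain ⟨hz, hMc, hpY, hpX, hh, hpos⟩ := push_data ν k w hL hL' hdim hinj E hEc hEt
  haveI := hEc.1
  constructor
  · rintro ⟨-, h0, -, hss⟩
    refine ⟨hMc, fun h => h0 (hz.mp h), hpX, fun F ι hι hF hF0 hni pF pE hpF hpE => ?_⟩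
    haveI := hι
    rw [eq_hilb k hL hF hpF, eq_hilb k hL hMc hpE, ← hh]
    obtain ⟨G, i, c, hi, hGc, hG0, hG, hc, hc0, -⟩ := exists_saturation ν k w hL hL' hdim hηV E hEc ι hF hF0
    haveI := hi
    have hle := redLE_of_mono_isSemistable k hL' ⟨hEc, h0, hpY, hss⟩ i hGc hG0
    have hFG : PolyLE (hilb k L F) (hilb k ((Scheme.Modules.pullback ν).obj L) G) := by
      rw [hG, polyLE_iff, add_sub_cancel_left]
      simpa [polyLE_iff] using hc0
    unfold RedLE at hle ⊢
    rw [show alpha 1 (hilb k ((Scheme.Modules.pullback ν).obj L) G) = alpha 1 (hilb k L F) by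
      rw [hG, alpha_add, hc, add_zero]] at hle
    exact polyLE_trans (polyLE_smul (hpos h0).le hFG) hle
  · rintro ⟨-, h0, -, hss⟩
    refine ⟨hEc, fun h => h0 (hz.mpr h), hpY, fun G i hi hG hG0 hni pF pE hpF hpE => ?_⟩
    haveI := hi
    haveI := hG.1
    rw [eq_hilb k hL' hG hpF, eq_hilb k hL' hEc hpE, hh, hilb_push ν k w hL hL' G hG]
    exact hss _ ((Scheme.Modules.pushforward ν).map i) inferInstance
      (Groth.Agent.ProperFin.isCoh_push_of_isFinite ν G hG) (fun h => hG0 (isZero_of_push ν G h))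
      (fun h => hni (haveI := h; isIso_of_push ν hηV hνη E hEt i)) _ _
      (isHilbPoly_hilb k hL (Groth.Agent.ProperFin.isCoh_push_of_isFinite ν G hG)) (isHilbPoly_hilb k hL hMc)

include k w hL hL' hdim hinj hηV hνη hEc hEt in
theorem isStable_push_iff :
    ShStab.IsStable k Y ((Scheme.Modules.pullback ν).obj L) E 1 ↔
      ShStab.IsStable k X L ((Scheme.Modules.pushforward ν).obj E) 1 := by
  obtain ⟨hz, hMc, hpY, hpX, hh, hpos⟩ := push_data ν k w hL hL' hdim hinj E hEc hEt
  haveI := hEc.1
  constructor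
  · rintro ⟨-, h0, -, hss⟩
    refine ⟨hMc, fun h => h0 (hz.mp h), hpX, fun F ι hι hF hF0 hni pF pE hpF hpE => ?_⟩
    haveI := hι
    rw [eq_hilb k hL hF hpF, eq_hilb k hL hMc hpE, ← hh]
    obtain ⟨G, i, c, hi, hGc, hG0, hG, hc, hc0, hclt⟩ := exists_saturation ν k w hL hL' hdim hηV E hEc ι hF hF0
    haveI := hi
    have hFG : PolyLE (hilb k L F) (hilb k ((Scheme.Modules.pullback ν).obj L) G) := by
      rw [hG, polyLE_iff, add_sub_cancel_left]
      simpa [polyLE_iff] using hc0
    have hα : alpha 1 (hilb k ((Scheme.Modules.pullback ν).obj L) G) = alpha 1 (hilb k L F) := by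
      rw [hG, alpha_add, hc, add_zero]
    by_cases hiso : IsIso i
    · have hlt := hclt hiso hni
      haveI := hiso
      have hGE := hilb_iso k hL' (asIso i) hGc
      have hFG' : PolyLT (hilb k L F) (hilb k ((Scheme.Modules.pullback ν).obj L) G) := by
        rw [hG, polyLT_iff, add_sub_cancel_left]
        simpa [polyLT_iff] using hlt
      unfold RedLT
      rw [hGE] at hFG' hα
      rw [← hα]
      exact polyLT_smul (hpos h0) hFG'
    · have hle := redLT_of_mono_isStable k hL' ⟨hEc, h0, hpY, hss⟩ i hGc hG0 hiso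
      unfold RedLT at hle ⊢
      rw [hα] at hle
      exact polyLT_of_le_of_lt (polyLE_smul (hpos h0).le hFG) hle
  · rintro ⟨-, h0, -, hss⟩
    refine ⟨hEc, fun h => h0 (hz.mpr h), hpY, fun G i hi hG hG0 hni pF pE hpF hpE => ?_⟩
    haveI := hi
    haveI := hG.1
    rw [eq_hilb k hL' hG hpF, eq_hilb k hL' hEc hpE, hh, hilb_push ν k w hL hL' G hG]
    exact hss _ ((Scheme.Modules.pushforward ν).map i) inferInstance
      (Groth.Agent.ProperFin.isCoh_push_of_isFinite ν G hG) (fun h => hG0 (isZero_of_push ν G h))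
      (fun h => hni (haveI := h; isIso_of_push ν hηV hνη E hEt i)) _ _
      (isHilbPoly_hilb k hL (Groth.Agent.ProperFin.isCoh_push_of_isFinite ν G hG)) (isHilbPoly_hilb k hL hMc)

end

end Groth.Agent.TFCurvLib

end
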