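import Groth.Agent.TFCurvLib.StabPush
import Groth.Agent.Ref1.Hull
import Groth.Agent.S12131
import Groth.Agent.S9349
import Groth.Agent.S4642
import Groth.Agent.Cube.Connected
import Groth.Agent.AmpleLib.Functorial
import Groth.Agent.AmpleFam.Pullback
import Groth.Prelude.Def_ShStab
import Groth.Prelude.Def_ModQuot

/-!
# Direct image along the normalization as a morphism of moduli of semistable sheaves
-/

universe u

open CategoryTheory Limits AlgebraicGeometry Opposite TopologicalSpace
open Groth.Agent.PullStalk.Sky Groth.Agent.PullStalk.Exact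
open StabCat Groth.Agent.HilbPolyX

set_option linter.style.haveILetI false

noncomputable section

namespace Groth.Agent.TFCurvLib

section Abs

variable (k : Type u) [Field k] {X : Scheme.{u}} [X.Over (Spec (CommRingCat.of k))]
  [IsProper (X ↘ Spec (CommRingCat.of k))]

include k in
/-- A pure one-dimensional module on an integral proper curve is torsion-free. -/
theorem isTorsionFree_of_isPure [IsIntegral X] (hdim : topologicalKrullDim X = 1) {E : X.Modules}
    (hE : Coh.IsCoh E) (hp : ShStab.IsPure X E 1) : TorSh.IsTorsionFree E := by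
  haveI := Groth.Agent.EulerChar.isLocallyNoetherian k (X := X)
  haveI := Groth.Agent.EulerChar.isNoetherian k (X := X)
  have hD := Groth.Agent.HomShQC.isCoh_dual E hE
  have hDD := Groth.Agent.HomShQC.isCoh_dual _ hD
  let K := kernel (RefHull.bidualMap E)
  have hK : Coh.IsCoh K := Groth.Agent.CohDev.isCoh_kernel' _ hE hDD
  have hη : genericPoint X ∉ CohB1.support K := fun h => h (subsingleton_of_forall_eq 0 fun t => by
    apply Groth.Agent.VBLib.stalkLin_injective (kernel.ι (RefHull.bidualMap E)) (genericPoint X)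
    apply (Groth.Agent.Ref1.bijective_bidual_η E hE).1
    show stalkLin (RefHull.bidualMap E) _ (stalkLin (kernel.ι (RefHull.bidualMap E)) _ t) =
      stalkLin (RefHull.bidualMap E) _ (stalkLin (kernel.ι (RefHull.bidualMap E)) _ 0)
    rw [← Groth.Agent.Omega.Stalks.stalkLin_comp, ← Groth.Agent.Omega.Stalks.stalkLin_comp, kernel.condition,
      Groth.Agent.Omega.Stalks.stalkLin_zero, Groth.Agent.Omega.Stalks.stalkLin_zero])
  have h0 : IsZero K := by_contra fun h => by
    have h1 := hp K (kernel.ι _) inferInstance hK h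
    have h2 := Groth.Agent.EulerChar.dim_support_le_zero k hdim hK hη
    rw [h1] at h2
    exact absurd h2 (by norm_num)
  haveI : Mono (RefHull.bidualMap E) := Preadditive.mono_of_isZero_kernel _ h0
  intro x
  let e := Groth.Agent.HomShQC.dualEquiv (RefHull.dual E) (Groth.Agent.HomShQC.isFP_of_isCoh _ hD) x
  have hinj := e.injective.comp (Groth.Agent.VBLib.stalkLin_injective (RefHull.bidualMap E) x)
  exact hinj.moduleIsTorsionFree (e.toLinearMap ∘ₗ stalkLin (RefHull.bidualMap E) x) (map_smul _)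

omit [IsProper (X ↘ Spec (CommRingCat.of k))] in
theorem nonempty_tensorPow_iso {L L' : X.Modules} (e : L ≅ L') :
    ∀ m : ℕ, Nonempty (CohB1.tensorPow L m ≅ CohB1.tensorPow L' m)
  | 0 => ⟨Iso.refl _⟩
  | m + 1 => by
    obtain ⟨f⟩ := nonempty_tensorPow_iso e m
    exact ⟨Groth.Agent.ProjTwist.tensCongr f e⟩

theorem isHilbPoly_congr {L L' : X.Modules} (e : L ≅ L') {E E' : X.Modules} (e' : E ≅ E') {P : Polynomial ℚ}
    (h : ShStab.IsHilbPoly k X L E P) : ShStab.IsHilbPoly k X L' E' P := fun m => by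
  obtain ⟨f⟩ := nonempty_tensorPow_iso e m
  rw [← h m, ShStab.twist, ShStab.twist, Groth.Agent.EulerChar.euler_iso k (Groth.Agent.ProjTwist.tensCongr e' f)]

theorem isSemistable_congr {L L' : X.Modules} (e : L ≅ L') {A B : X.Modules} (e' : A ≅ B) {d : ℕ}
    (h : ShStab.IsSemistable k X L A d) : ShStab.IsSemistable k X L' B d := by
  obtain ⟨hc, h0, hp, hss⟩ := h
  refine ⟨Groth.Agent.CohDev.isCoh_of_iso e' hc, fun hz => h0 (hz.of_iso e'), isPure_of_mono hp e'.inv,
    fun F ι hι hF hF0 hi pF pE hpF hpE => hss F (ι ≫ e'.inv) inferInstance hF hF0 (fun hi' => hi ?_) pF pE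
      (isHilbPoly_congr k e.symm (Iso.refl _) hpF) (isHilbPoly_congr k e.symm e'.symm hpE)⟩
  exact IsIso.of_isIso_comp_right ι e'.inv

end Abs

/-- Flatness over the base is invariant under isomorphisms. -/
theorem isFlatOver_of_iso {X S : Scheme.{u}} (f : X ⟶ S) {M N : X.Modules} (e : M ≅ N)
    (h : FlatMod.IsFlatOver f M) : FlatMod.IsFlatOver f N := fun x => by
  unfold FlatMod.IsFlatOverAt
  letI := FlatMod.moduleStalkOver f M x
  letI := FlatMod.moduleStalkOver f N x
  haveI : Module.Flat (S.presheaf.stalk (f.base x)) (M.presheaf.stalk x) := h x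
  have hb : Function.Bijective (stalkLin e.inv x) :=
    (Groth.Agent.HomShQC.isIso_iff_bijective_stalk e.inv).mp inferInstance x
  let l : N.presheaf.stalk x →ₗ[S.presheaf.stalk (f.base x)] M.presheaf.stalk x :=
    { toFun := stalkLin e.inv x
      map_add' := map_add _
      map_smul' := fun r v => (stalkLin e.inv x).map_smul _ v }
  exact Module.Flat.of_linearEquiv (LinearEquiv.ofBijective l hb)

section Moduli

variable {k : Type u} [Field k] {X Y : Scheme.{u}} (ν : Y ⟶ X) (f : X ⟶ Spec (CommRingCat.of k))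

/-- The map `ν × T`. -/
abbrev pmap (T : Over (Spec (CommRingCat.of k))) : PicF.XT (ν ≫ f) T ⟶ PicF.XT f T :=
  pullback.map (ν ≫ f) T.hom f T.hom ν (𝟙 T.left) (𝟙 (Spec (CommRingCat.of k))) (Category.comp_id _)
    ((Category.comp_id _).trans (Category.id_comp _).symm)

theorem pmap_fst (T : Over (Spec (CommRingCat.of k))) :
    pmap ν f T ≫ pullback.fst f T.hom = pullback.fst (ν ≫ f) T.hom ≫ ν :=
  pullback.lift_fst _ _ _

theorem pmap_snd (T : Over (Spec (CommRingCat.of k))) :
    pmap ν f T ≫ pullback.snd f T.hom = pullback.snd (ν ≫ f) T.hom :=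
  (pullback.lift_snd _ _ _).trans (Category.comp_id _)

theorem XTmap_fst' {T T' : Over (Spec (CommRingCat.of k))} (g : T' ⟶ T) :
    PicF.XTmap f g ≫ pullback.fst f T.hom = pullback.fst f T'.hom :=
  (pullback.lift_fst _ _ _).trans (Category.comp_id _)

theorem XTmap_snd' {T T' : Over (Spec (CommRingCat.of k))} (g : T' ⟶ T) :
    PicF.XTmap f g ≫ pullback.snd f T.hom = pullback.snd f T'.hom ≫ g.left :=
  pullback.lift_snd _ _ _

theorem isPullback_pmap (T : Over (Spec (CommRingCat.of k))) :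
    IsPullback (pullback.fst (ν ≫ f) T.hom) (pmap ν f T) ν (pullback.fst f T.hom) := by
  refine IsPullback.of_bot ?_ (pmap_fst ν f T).symm (IsPullback.of_hasPullback f T.hom)
  rw [pmap_snd]
  exact IsPullback.of_hasPullback (ν ≫ f) T.hom

theorem isPullback_XTmap {T T' : Over (Spec (CommRingCat.of k))} (g : T' ⟶ T) :
    IsPullback (PicF.XTmap (ν ≫ f) g) (pmap ν f T') (pmap ν f T) (PicF.XTmap f g) := by
  refine IsPullback.of_right ?_ (pullback.hom_ext ?_ ?_) (isPullback_pmap ν f T)
  · rw [XTmap_fst' (ν ≫ f) g, XTmap_fst' f g]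
    exact isPullback_pmap ν f T'
  · rw [Category.assoc, Category.assoc, pmap_fst, XTmap_fst' f g, pmap_fst, ← Category.assoc, XTmap_fst' (ν ≫ f) g]
  · rw [Category.assoc, Category.assoc, pmap_snd, XTmap_snd' (ν ≫ f) g, XTmap_snd' f g, ← Category.assoc, pmap_snd]

variable [IsFinite ν]

instance isFinite_pmap (T : Over (Spec (CommRingCat.of k))) : IsFinite (pmap ν f T) :=
  MorphismProperty.of_isPullback (isPullback_pmap ν f T) (inferInstanceAs (IsFinite ν))

/-- Direct image commutes with pull-back of families. -/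
theorem nonempty_pull_push {T T' : Over (Spec (CommRingCat.of k))} (g : T' ⟶ T)
    (x : (PicF.XT (ν ≫ f) T).Modules) (hx : Coh.IsQCoh x) :
    Nonempty ((Scheme.Modules.pullback (PicF.XTmap f g)).obj ((Scheme.Modules.pushforward (pmap ν f T)).obj x) ≅
      (Scheme.Modules.pushforward (pmap ν f T')).obj ((Scheme.Modules.pullback (PicF.XTmap (ν ≫ f) g)).obj x)) := by
  haveI := hx
  exact ⟨@asIso _ _ _ _ _ (Groth.Agent.S12131.result (pmap ν f T) (PicF.XTmap f g) (PicF.XTmap (ν ≫ f) g)
    (pmap ν f T') (isPullback_XTmap ν f g) x)⟩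

variable [IsAlgClosed k] [IsIntegral X] [IsIntegral Y] [IsProper f] [Surjective ν]
  (hdim : topologicalKrullDim X = 1) (V : X.Opens) (hV : genericPoint X ∈ V) [IsIso (ν ∣_ V)]
  (L : X.Modules) (hL : CohB1.IsAmple L) (P : Polynomial ℚ)

include hdim hV hL in
/-- On a geometric fibre the direct image of a semistable sheaf is semistable, with the same Hilbert polynomial. -/
theorem semistable_push_fibre (Ω : Type u) [Field Ω] [IsAlgClosed Ω]
    (s : Spec (CommRingCat.of Ω) ⟶ Spec (CommRingCat.of k)) (E : (PicF.XT (ν ≫ f) (Over.mk s)).Modules)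
    (hE : letI : (PicF.XT (ν ≫ f) (Over.mk s)).Over (Spec (CommRingCat.of Ω)) :=
        ⟨PicF.XTproj (ν ≫ f) (Over.mk s)⟩
      ShStab.IsHilbPoly Ω (PicF.XT (ν ≫ f) (Over.mk s))
          ((Scheme.Modules.pullback (pullback.fst (ν ≫ f) s)).obj ((Scheme.Modules.pullback ν).obj L)) E P ∧
        ShStab.IsSemistable Ω (PicF.XT (ν ≫ f) (Over.mk s))
          ((Scheme.Modules.pullback (pullback.fst (ν ≫ f) s)).obj ((Scheme.Modules.pullback ν).obj L)) E 1) :
    letI : (PicF.XT f (Over.mk s)).Over (Spec (CommRingCat.of Ω)) := ⟨PicF.XTproj f (Over.mk s)⟩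
    ShStab.IsHilbPoly Ω (PicF.XT f (Over.mk s)) ((Scheme.Modules.pullback (pullback.fst f s)).obj L)
        ((Scheme.Modules.pushforward (pmap ν f (Over.mk s))).obj E) P ∧
      ShStab.IsSemistable Ω (PicF.XT f (Over.mk s)) ((Scheme.Modules.pullback (pullback.fst f s)).obj L)
        ((Scheme.Modules.pushforward (pmap ν f (Over.mk s))).obj E) 1 := by
  letI iY : (PicF.XT (ν ≫ f) (Over.mk s)).Over (Spec (CommRingCat.of Ω)) := ⟨PicF.XTproj (ν ≫ f) (Over.mk s)⟩
  letI iX : (PicF.XT f (Over.mk s)).Over (Spec (CommRingCat.of Ω)) := ⟨PicF.XTproj f (Over.mk s)⟩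
  let νs := pmap ν f (Over.mk s)
  let a : PicF.XT f (Over.mk s) ⟶ X := pullback.fst f s
  haveI : IsProper (PicF.XT f (Over.mk s) ↘ Spec (CommRingCat.of Ω)) :=
    inferInstanceAs (IsProper (pullback.snd f s))
  haveI : IsProper (PicF.XT (ν ≫ f) (Over.mk s) ↘ Spec (CommRingCat.of Ω)) :=
    inferInstanceAs (IsProper (pullback.snd (ν ≫ f) s))
  have hw : νs ≫ (PicF.XT f (Over.mk s) ↘ Spec (CommRingCat.of Ω)) =
      PicF.XT (ν ≫ f) (Over.mk s) ↘ Spec (CommRingCat.of Ω) := by
    exact pmap_snd ν f (Over.mk s)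
  haveI : IsIntegral (PicF.XT f (Over.mk s)) :=
    (Groth.Agent.Cube.geometricallyIntegral_of_isAlgClosed f).geometrically_isIntegral s _ _
      (IsPullback.of_hasPullback f s)
  haveI : IsIntegral (PicF.XT (ν ≫ f) (Over.mk s)) :=
    (Groth.Agent.Cube.geometricallyIntegral_of_isAlgClosed (ν ≫ f)).geometrically_isIntegral s _ _
      (IsPullback.of_hasPullback (ν ≫ f) s)
  letI : (pullback f s).Over (Spec (CommRingCat.of Ω)) := iX
  letI : (pullback (ν ≫ f) s).Over (Spec (CommRingCat.of Ω)) := iY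
  haveI : IsProper (pullback f s ↘ Spec (CommRingCat.of Ω)) :=
    inferInstanceAs (IsProper (pullback.snd f s))
  haveI : IsProper (pullback (ν ≫ f) s ↘ Spec (CommRingCat.of Ω)) :=
    inferInstanceAs (IsProper (pullback.snd (ν ≫ f) s))
  haveI : IsIntegral (pullback f s) := inferInstanceAs (IsIntegral (PicF.XT f (Over.mk s)))
  obtain ⟨φ, rfl⟩ : ∃ φ, Spec.map φ = s := ⟨_, Spec.map_preimage s⟩
  haveI : Surjective (Spec.map φ) :=
    ⟨fun y => ⟨(default : PrimeSpectrum Ω), Subsingleton.elim (α := PrimeSpectrum k) _ _⟩⟩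
  have hdim' : topologicalKrullDim ↥(PicF.XT f (Over.mk (Spec.map φ))) = 1 := by
    letI := φ.hom.toAlgebra
    exact (Groth.Agent.S4642.result (k := k) (K := Ω) f).trans hdim
  haveI : Surjective νs :=
    MorphismProperty.of_isPullback (isPullback_pmap ν f (Over.mk (Spec.map φ))) (inferInstanceAs (Surjective ν))
  haveI : IsDominant νs := ⟨νs.surjective.denseRange⟩
  haveI := IsSchemeTheoreticallyDominant.of_isDominant νs
  -- the open over which the map is an isomorphism
  let V' : (PicF.XT f (Over.mk (Spec.map φ))).Opens := a ⁻¹ᵁ V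
  have hV' : genericPoint (PicF.XT f (Over.mk (Spec.map φ))) ∈ V' := by
    haveI : Surjective a := inferInstanceAs (Surjective (pullback.fst f (Spec.map φ)))
    obtain ⟨z, hz⟩ := a.surjective (genericPoint X)
    exact (genericPoint_specializes z).mem_open V'.2 (show a z ∈ V from hz.symm ▸ hV)
  haveI : IsIso (νs ∣_ V') := by
    have sqV := (isPullback_morphismRestrict ν V)
    have sq1 := isPullback_morphismRestrict νs V'
    have big := sq1.flip.paste_horiz (isPullback_pmap ν f (Over.mk (Spec.map φ)))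
    have hb : V'.ι ≫ a = (a ∣_ V) ≫ V.ι := (morphismRestrict_ι a V).symm
    let m := sqV.flip.lift ((νs ⁻¹ᵁ V').ι ≫ pullback.fst (ν ≫ f) (Spec.map φ)) ((νs ∣_ V') ≫ (a ∣_ V))
      (big.w.trans ((congrArg _ hb).trans (Category.assoc _ _ _).symm))
    have hm : IsPullback m (νs ∣_ V') (ν ∣_ V) (a ∣_ V) := by
      refine IsPullback.of_right ?_ (sqV.flip.lift_snd _ _ _) sqV.flip
      rw [sqV.flip.lift_fst, ← hb]
      exact big
    exact MorphismProperty.of_isPullback (P := MorphismProperty.isomorphisms Scheme.{u}) hm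
      (show IsIso (ν ∣_ V) from inferInstance)
  have hνη : νs (genericPoint (PicF.XT (ν ≫ f) (Over.mk (Spec.map φ)))) =
      genericPoint (PicF.XT f (Over.mk (Spec.map φ))) := by
    refine IsGenericPoint.eq ?_ (genericPoint_spec _)
    refine Set.eq_univ_of_univ_subset ?_
    rw [← νs.denseRange.closure_range]
    refine closure_minimal ?_ isClosed_closure
    rintro _ ⟨z, rfl⟩
    exact specializes_iff_mem_closure.mp ((genericPoint_specializes z).map νs.continuous)
  -- polarisations
  haveI : IsAffineHom a := MorphismProperty.pullback_fst (P := @IsAffineHom) f (Spec.map φ) inferInstance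
  have hLa : CohB1.IsAmple ((Scheme.Modules.pullback a).obj L) :=
    Groth.Agent.AmpleLib.isAmple_pullback_of_qaMor a (Groth.Agent.AmpleFam.Pullback.qaMor_of_isAffineHom a) hL
  have hLb : CohB1.IsAmple ((Scheme.Modules.pullback νs).obj ((Scheme.Modules.pullback a).obj L)) :=
    Groth.Agent.AmpleLib.isAmple_pullback_of_qaMor νs (Groth.Agent.AmpleFam.Pullback.qaMor_of_isAffineHom νs) hLa
  let e : (Scheme.Modules.pullback (pullback.fst (ν ≫ f) (Spec.map φ))).obj ((Scheme.Modules.pullback ν).obj L) ≅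
      (Scheme.Modules.pullback νs).obj ((Scheme.Modules.pullback a).obj L) :=
    (Scheme.Modules.pullbackComp (pullback.fst (ν ≫ f) (Spec.map φ)) ν).app L ≪≫
      (Scheme.Modules.pullbackCongr (isPullback_pmap ν f (Over.mk (Spec.map φ))).w).app L ≪≫
      ((Scheme.Modules.pullbackComp νs a).app L).symm
  have hP := isHilbPoly_congr Ω e (Iso.refl E) hE.1
  have hss := isSemistable_congr Ω e (Iso.refl E) hE.2
  haveI : IsFinite νs := isFinite_pmap ν f _
  have hY1 : topologicalKrullDim ↥(PicF.XT (ν ≫ f) (Over.mk (Spec.map φ))) = 1 :=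
    (dim_eq_one νs Ω hdim').trans Nat.cast_one
  have hEt := isTorsionFree_of_isPure Ω hY1 hss.1 hss.2.2.1
  refine ⟨?_, (isSemistable_push_iff νs Ω hw hLa hLb hdim' (fun U => νs.app_injective U) hV' hνη E hss.1 hEt).mp hss⟩
  rw [eq_hilb Ω hLb hss.1 hP, hilb_push νs Ω hw hLa hLb E hss.1]
  exact isHilbPoly_hilb Ω hLa (Groth.Agent.ProperFin.isCoh_push_of_isFinite νs E hss.1)

include hdim hV hL in
/-- Direct image of an admissible family is admissible. -/
theorem famSS_push (T : Over (Spec (CommRingCat.of k))) (x : (PicF.XT (ν ≫ f) T).Modules)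
    (hx : ShStab.famSS (ν ≫ f) ((Scheme.Modules.pullback ν).obj L) P 1 T x) :
    ShStab.famSS f L P 1 T ((Scheme.Modules.pushforward (pmap ν f T)).obj x) := by
  obtain ⟨hc, hfl, hfib⟩ := hx
  refine ⟨Groth.Agent.ProperFin.isCoh_push_of_isFinite _ x hc, ?_, fun Ω _ _ t => ?_⟩
  · have hsnd := pmap_snd ν f T
    exact (Groth.Agent.S9349.result (pmap ν f T) (pullback.snd f T.hom) x hc.1).mp (hsnd.symm ▸ hfl)
  · letI : (PicF.XT f (Over.mk (t ≫ T.hom))).Over (Spec (CommRingCat.of Ω)) :=
      ⟨PicF.XTproj f (Over.mk (t ≫ T.hom))⟩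
    haveI : IsProper (PicF.XT f (Over.mk (t ≫ T.hom)) ↘ Spec (CommRingCat.of Ω)) :=
      inferInstanceAs (IsProper (pullback.snd f (t ≫ T.hom)))
    obtain ⟨e⟩ := nonempty_pull_push ν f (Over.homMk t rfl : Over.mk (t ≫ T.hom) ⟶ T) x hc.1
    obtain ⟨h1, h2⟩ := semistable_push_fibre ν f hdim V hV L hL P Ω (t ≫ T.hom) _ (hfib Ω t)
    exact ⟨isHilbPoly_congr Ω (Iso.refl _) e.symm h1, isSemistable_congr Ω (Iso.refl _) e.symm h2⟩

include hdim hV hL in
/-- The morphism of moduli spaces induced by direct image. -/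
theorem existsUnique_induces (T₀ : ObjectProperty (Over (Spec (CommRingCat.of k))))
    (M' : Over (Spec (CommRingCat.of k)))
    (φ' : (ShStab.modSS (ν ≫ f) ((Scheme.Modules.pullback ν).obj L) P 1).Hom T₀ M')
    (hM' : ModFun.IsBestApprox T₀ (ShStab.modSS (ν ≫ f) ((Scheme.Modules.pullback ν).obj L) P 1) M' φ')
    (M : Over (Spec (CommRingCat.of k))) (φ : (ShStab.modSS f L P 1).Hom T₀ M) :
    ∃! g : M' ⟶ M, ModFun.Induces φ' φ
      (fun (T : Over (Spec (CommRingCat.of k))) (x : (PicF.XT (ν ≫ f) T).Modules) (y : (PicF.XT f T).Modules) =>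
        Nonempty (y ≅ (Scheme.Modules.pushforward (pmap ν f T)).obj x)) g := by
  have hok : ∀ (T : Over (Spec (CommRingCat.of k))) (x : (PicF.XT (ν ≫ f) T).Modules),
      (ShStab.modSS (ν ≫ f) ((Scheme.Modules.pullback ν).obj L) P 1).ok T x →
      (ShStab.modSS f L P 1).ok T ((Scheme.Modules.pushforward (pmap ν f T)).obj x) :=
    fun T x hx => ⟨trivial, famSS_push ν f hdim V hV L hL P T x hx.2⟩
  have hr : ∀ (T : Over (Spec (CommRingCat.of k))) (y y' : (PicF.XT f T).Modules), (y' ≅ y) →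
      (ShStab.modSS f L P 1).r T y y' := fun T y y' e => by
    refine ⟨Coh.structureModule T.left, Groth.Agent.LFFrame.isInvertible_structureModule _, ⟨?_⟩⟩
    exact e ≪≫ (Groth.Agent.ProjTwist.tensOne y).symm ≪≫
      Groth.Agent.ProjTwist.tensCongr (Iso.refl y) (Groth.Agent.QCoh.pullbackUnitIso _).symm
  let ψ : (ShStab.modSS (ν ≫ f) ((Scheme.Modules.pullback ν).obj L) P 1).Hom T₀ M :=
    { app := fun T x hT hx => φ.app T _ hT (hok T x hx)
      natural := fun {T T'} g x hT hT' hx hx' => by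
        obtain ⟨e⟩ := nonempty_pull_push ν f g x hx.2.1.1
        have hP' : (ShStab.modSS f L P 1).ok T' ((ShStab.modSS f L P 1).pull g
            ((Scheme.Modules.pushforward (pmap ν f T)).obj x)) := by
          obtain ⟨-, hc, hfl, hfib⟩ := hok T' _ hx'
          refine ⟨trivial, Groth.Agent.CohDev.isCoh_of_iso e.symm hc, isFlatOver_of_iso _ e.symm hfl,
            fun Ω _ _ t => ?_⟩
          letI : (PicF.XT f (Over.mk (t ≫ T'.hom))).Over (Spec (CommRingCat.of Ω)) :=
            ⟨PicF.XTproj f (Over.mk (t ≫ T'.hom))⟩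
          haveI : IsProper (PicF.XT f (Over.mk (t ≫ T'.hom)) ↘ Spec (CommRingCat.of Ω)) :=
            inferInstanceAs (IsProper (pullback.snd f (t ≫ T'.hom)))
          let e' := (Scheme.Modules.pullback (PicF.XTmap f
            (Over.homMk t rfl : Over.mk (t ≫ T'.hom) ⟶ T'))).mapIso e.symm
          exact ⟨isHilbPoly_congr Ω (Iso.refl _) e' (hfib Ω t).1, isSemistable_congr Ω (Iso.refl _) e' (hfib Ω t).2⟩
        exact (φ.resp _ _ hT' (hok T' _ hx') hP' (hr _ _ _ e)).trans
          (φ.natural g _ hT hT' (hok T x hx) hP')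
      resp := fun {T} x x' hT hx hx' hrel => by
        obtain ⟨N, hN, ⟨e⟩⟩ := hrel
        refine φ.resp _ _ hT (hok T x hx) (hok T x' hx') ⟨N, hN, ⟨?_⟩⟩
        have hsnd := pmap_snd ν f T
        exact (Scheme.Modules.pushforward (pmap ν f T)).mapIso (e ≪≫
          Groth.Agent.ProjTwist.tensCongr (@Iso.refl (PicF.XT (ν ≫ f) T).Modules _ x) ((Scheme.Modules.pullbackCongr hsnd.symm).app N ≪≫
            ((Scheme.Modules.pullbackComp (pmap ν f T) (pullback.snd f T.hom)).app N).symm)) ≪≫
          (Groth.Agent.TwistFlat.projIso (pmap ν f T) x _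
            (Groth.Agent.PicCl.isInvertible_pullback (PicF.XTproj f T) hN)).symm }
  obtain ⟨g, hg, huniq⟩ := hM' M ψ
  refine ⟨g, fun T x y hT hx hy hxy => ?_, fun g' hg' => huniq g' fun T x hT hx => ?_⟩
  · obtain ⟨e⟩ := hxy
    exact (φ.resp _ _ hT (hok T x hx) hy (hr _ _ _ e)).symm.trans (hg T x hT hx)
  · exact hg' T x _ hT hx (hok T x hx) ⟨Iso.refl _⟩

end Moduli

end Groth.Agent.TFCurvLib

end
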